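import Mathlib
import Cfsg.Agent.H940.EngData
import Cfsg.Agent.H715.Fpr.Row4_m3
import Cfsg.Agent.H812.FullSuz
import Cfsg.Agent.H812.SuzSeven_m3
import Cfsg.Agent.OddHalf.MM.Main_m3
import Cfsg.Agent.S1680
import Cfsg.Agent.S1694
import Cfsg.Agent.S2150
import Cfsg.Agent.H212.SuzFive.ThreeNorm
import Cfsg.Agent.H316.RedPerf_m3
import Cfsg.Agent.H474.Suz13.Main
import Cfsg.Agent.FastGrp
import Cfsg.Agent.Prune
set_option linter.all false

section
prune_inst 0x7f00000000000000000000000000000000000000000000000000000000000000000000000000000000000000000000000000000000000000000000000000000000000000000000000000000000000000003fffffffffffffffffffffffffffbeffbdffbfffff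

-- part: H212/SuzFive/Row
section
set_option linter.all false
open scoped Cfsg.Agent.FastGrp

-- part: H212/SuzFive/CovMax
section
/-!
# The normalizer of a subgroup `⟨y⟩` with `C(y)` a perfect cover of a simple group is maximal (helper212)

`coatom_of_cov` : `G` finite simple, `y` of order 3, `C(y) / ⟨y⟩ ≅ H` simple, `y ∈ C(y)'`, all proper subgroups of `H` have
index at least `d`, and `|G : N(⟨y⟩)| < 3 d ²`; then `N(⟨y⟩)` is maximal.
-/

set_option autoImplicit false

namespace Cfsg.Agent.H212.SuzFive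

open Subgroup

open scoped commutatorElement

section

variable {C H : Type*} [Group C] [Group H]

/-- a central extension with kernel in the derived subgroup is perfect -/
theorem perfect_of_cov [IsSimpleGroup H] (hna : ¬ ∀ a b : H, a * b = b * a) (f : C →* H) (hs : Function.Surjective f)
    (hk : f.ker ≤ commutator C) : commutator C = ⊤ := by
  have h1 : (commutator C).map f = ⊤ := by
    have hn : ((commutator C).map f).Normal := Subgroup.Normal.map inferInstance f hs
    rcases hn.eq_bot_or_eq_top with h | h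
    · exfalso
      apply hna
      intro a b
      obtain ⟨a, rfl⟩ := hs a
      obtain ⟨b, rfl⟩ := hs b
      have h2 : f ⁅a, b⁆ ∈ (commutator C).map f :=
        mem_map_of_mem f (commutator_mem_commutator (mem_top a) (mem_top b))
      rw [h, mem_bot, map_commutatorElement, commutatorElement_eq_one_iff_mul_comm] at h2
      exact h2
    · exact h
  rw [eq_top_iff]
  intro c _
  have h2 : f c ∈ (commutator C).map f := by rw [h1]; exact mem_top _
  obtain ⟨c', hc', h3⟩ := h2
  have h4 : c'⁻¹ * c ∈ f.ker := by rw [MonoidHom.mem_ker, map_mul, map_inv, h3, inv_mul_cancel]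
  have h5 := mul_mem hc' (hk h4)
  rwa [mul_inv_cancel_left] at h5

/-- a subgroup `S` with `S · Z(C) = C` contains the commutators -/
theorem commutator_le_of_sup {S Z : Subgroup C} (hZ : ∀ z ∈ Z, ∀ c : C, z * c = c * z) (h : S ⊔ Z = ⊤) :
    commutator C ≤ S := by
  have hn : Z.Normal := ⟨fun z hz c => by rw [← hZ z hz c, mul_inv_cancel_right]; exact hz⟩
  rw [commutator_def, commutator_le]
  intro a _ b _
  have ha : a ∈ S ⊔ Z := by rw [h]; exact mem_top a
  have hb : b ∈ S ⊔ Z := by rw [h]; exact mem_top b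
  obtain ⟨s, hs, z, hz, rfl⟩ := mem_sup_of_normal_right.1 ha
  obtain ⟨t, ht, w, hw, rfl⟩ := mem_sup_of_normal_right.1 hb
  have h1 : ⁅s * z, t * w⁆ = ⁅s, t⁆ := by
    rw [commutatorElement_def, commutatorElement_def, mul_inv_rev, mul_inv_rev]
    have e1 : s * z * (t * w) * (z⁻¹ * s⁻¹) * (w⁻¹ * t⁻¹) = s * (z * (t * w)) * z⁻¹ * s⁻¹ * w⁻¹ * t⁻¹ := by group
    rw [e1, hZ z hz (t * w)]
    have e2 : s * (t * w * z) * z⁻¹ * s⁻¹ * w⁻¹ * t⁻¹ = s * t * (w * s⁻¹) * w⁻¹ * t⁻¹ := by group
    rw [e2, hZ w hw s⁻¹]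
    group
  rw [h1, commutatorElement_def]
  exact mul_mem (mul_mem (mul_mem hs ht) (inv_mem hs)) (inv_mem ht)

variable [Finite C]

theorem eq_top_of_index_lt (f : C →* H) (hs : Function.Surjective f)
    (hZ : ∀ z ∈ f.ker, ∀ c : C, z * c = c * z) (hperf : commutator C = ⊤) {d : ℕ}
    (hmin : ∀ S : Subgroup H, S ≠ ⊤ → d ≤ S.index) {S : Subgroup C} (hS : S.index < d) : S = ⊤ := by
  have h1 : (S.map f).index ≤ S.index := Nat.le_of_dvd (Nat.pos_of_ne_zero index_ne_zero_of_finite) (index_map_dvd S hs)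
  have h2 : S.map f = ⊤ := by
    by_contra h
    have := hmin _ h
    omega
  have h3 : S ⊔ f.ker = ⊤ := by rw [← comap_map_eq, h2, comap_top]
  have h4 := commutator_le_of_sup hZ h3
  rw [hperf] at h4
  exact top_le_iff.1 h4

theorem mem_of_index_lt (f : C →* H) (hs : Function.Surjective f)
    (hZ : ∀ z ∈ f.ker, ∀ c : C, z * c = c * z) (hperf : commutator C = ⊤) {d p : ℕ} (hp : p.Prime)
    (hker : Nat.card f.ker = p)
    (hmin : ∀ S : Subgroup H, S ≠ ⊤ → d ≤ S.index) {S : Subgroup C} (hS : S.index < p * d) : f.ker ≤ S := by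
  have hH : Finite H := Finite.of_surjective f hs
  by_contra hne
  have hbot : S ⊓ f.ker = ⊥ := by
    have h1 : Nat.card ((S.subgroupOf f.ker : Subgroup f.ker)) ∣ p := hker ▸ card_subgroup_dvd_card _
    rcases (Nat.dvd_prime hp).1 h1 with h2 | h2
    · have h3 := Subgroup.eq_bot_of_card_eq _ h2
      have h4 : Disjoint S f.ker := subgroupOf_eq_bot.1 h3
      exact h4.eq_bot
    · exfalso
      apply hne
      have h3 : S.subgroupOf f.ker = ⊤ := eq_top_of_card_eq _ (by rw [h2, hker])
      exact subgroupOf_eq_top.1 h3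
  have h1 : Nat.card (S.map f) = Nat.card S := by
    refine (Nat.card_congr (Equiv.ofBijective (fun s : S => (⟨f s, mem_map_of_mem f s.2⟩ : S.map f)) ⟨?_, ?_⟩)).symm
    · intro a b hab
      have h2 : f a = f b := congrArg Subtype.val hab
      have h3 : (a : C)⁻¹ * b ∈ S ⊓ f.ker :=
        mem_inf.2 ⟨S.mul_mem (S.inv_mem a.2) b.2, by rw [MonoidHom.mem_ker, map_mul, map_inv, h2, inv_mul_cancel]⟩
      rw [hbot, mem_bot] at h3
      exact Subtype.ext (inv_mul_eq_one.1 h3)
    · rintro ⟨_, s, hs, rfl⟩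
      exact ⟨⟨s, hs⟩, rfl⟩
  have h2 : Nat.card C = p * Nat.card H := by
    rw [← f.ker.card_mul_index, hker, index_ker, MonoidHom.range_eq_top.2 hs, card_top]
  have h3 := S.card_mul_index
  have h4 := (S.map f).card_mul_index
  rw [h1] at h4
  rw [h2, ← h4] at h3
  have h5 : S.index = p * (S.map f).index := by
    have hpos : 0 < Nat.card S := Nat.card_pos
    apply Nat.eq_of_mul_eq_mul_left hpos
    rw [h3]
    ring
  have h6 : (S.map f).index < d := by
    rw [h5] at hS
    exact lt_of_mul_lt_mul_left hS (Nat.zero_le _)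
  have h7 : S.map f = ⊤ := by
    by_contra h
    have := hmin _ h
    omega
  have h8 : S ⊔ f.ker = ⊤ := by rw [← comap_map_eq, h7, comap_top]
  have h9 := commutator_le_of_sup hZ h8
  rw [hperf] at h9
  exact hne (le_top.trans h9)

end

theorem coatom_aux {G H : Type*} [Group G] [Finite G] [IsSimpleGroup G] [Group H] [IsSimpleGroup H]
    (hna : ¬ ∀ a b : H, a * b = b * a) {y : G} {p : ℕ} (hp : p.Prime) (ho : orderOf y = p) {C : Subgroup G}
    (hCdef : C = centralizer ({y} : Set G)) (hyC : y ∈ C)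
    (f : ↥C →* H) (hs : Function.Surjective f) (hk : ∀ c, f c = 1 ↔ (c : G) ∈ zpowers y)
    (hy : (⟨y, hyC⟩ : ↥C) ∈ commutator ↥C) {d : ℕ} (hmin : ∀ S : Subgroup H, S ≠ ⊤ → d ≤ S.index)
    (hidx : (normalizer ((zpowers y : Subgroup G) : Set G)).index < p * d * d)
    (hM : normalizer ((zpowers y : Subgroup G) : Set G) ≠ ⊤) :
    IsCoatom (normalizer ((zpowers y : Subgroup G) : Set G)) := by
  set M : Subgroup G := normalizer ((zpowers y : Subgroup G) : Set G) with hMdef
  have hCmem : ∀ c : G, c ∈ C ↔ c * y = y * c := fun c => by rw [hCdef, mem_centralizer_singleton_iff]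
  -- the kernel
  have hkmem : ∀ c : C, c ∈ f.ker ↔ (c : G) ∈ zpowers y := fun c => by rw [MonoidHom.mem_ker, hk]
  have hkz : f.ker = zpowers (⟨y, hyC⟩ : C) := by
    ext c
    rw [hkmem, mem_zpowers_iff, mem_zpowers_iff]
    constructor
    · rintro ⟨k, hk⟩
      exact ⟨k, Subtype.ext (by rw [Subgroup.coe_zpow]; exact hk)⟩
    · rintro ⟨k, hk⟩
      exact ⟨k, by rw [← hk, Subgroup.coe_zpow]⟩
  have hker : Nat.card f.ker = p := by
    rw [hkz, Nat.card_zpowers, ← ho, ← Subgroup.orderOf_coe]
  have hZ : ∀ z ∈ f.ker, ∀ c : C, z * c = c * z := by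
    intro z hz c
    obtain ⟨k, hk⟩ := mem_zpowers_iff.1 ((hkmem z).1 hz)
    apply Subtype.ext
    have h1 : (c : G) * y = y * c := (hCmem c).1 c.2
    have h2 : Commute (c : G) (y ^ k) := Commute.zpow_right h1 k
    rw [Subgroup.coe_mul, Subgroup.coe_mul, ← hk]
    exact h2.eq.symm
  have hperf : commutator C = ⊤ := by
    refine perfect_of_cov hna f hs ?_
    rw [hkz, zpowers_le]
    exact hy
  have hy1 : y ≠ 1 := by
    rintro rfl
    rw [orderOf_one] at ho
    exact hp.one_lt.ne ho
  have hCM : C ≤ M := by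
    intro c hc
    refine mem_normalizer_fintype fun a ha => ?_
    obtain ⟨k, rfl⟩ := mem_zpowers_iff.1 ha
    have h2 : Commute c (y ^ k) := Commute.zpow_right ((hCmem c).1 hc) k
    rw [h2.eq, mul_inv_cancel_right]
    exact ha
  refine ⟨hM, fun K hK => ?_⟩
  by_contra hKtop
  have hKlt := hK
  have hMK : M ≤ K := hK.le
  -- conjugates of `K` as subgroups of `C`
  have hKidx : p * d ≤ K.index := by
    by_contra hlt
    push Not at hlt
    apply hKtop
    have hall : ∀ g : G, g⁻¹ * y * g ∈ K := by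
      intro g
      let Kg : Subgroup G := K.map (MulAut.conj g).toMonoidHom
      have h1 : Kg.index = K.index := index_map_of_bijective (MulAut.conj g).bijective K
      have h2 : (Kg.subgroupOf C).index ≤ Kg.index := by
        have : Kg.relIndex C ≤ Kg.relIndex ⊤ := relIndex_le_of_le_right le_top (by
          rw [relIndex_top_right]; exact index_ne_zero_of_finite)
        rwa [relIndex_top_right] at this
      have h3 := mem_of_index_lt f hs hZ hperf hp hker hmin (S := Kg.subgroupOf C) (by omega)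
      have h4 : (⟨y, hyC⟩ : C) ∈ Kg.subgroupOf C := h3 (by rw [hkz]; exact mem_zpowers _)
      obtain ⟨k, hk, hky⟩ := mem_subgroupOf.1 h4
      have h5 : g * k * g⁻¹ = y := hky
      have h6 : g⁻¹ * y * g = k := by rw [← h5]; group
      rw [h6]
      exact hk
    have h1 : normalClosure ({y} : Set G) ≤ K := by
      rw [normalClosure, closure_le]
      intro x hx
      obtain ⟨a, ha, hax⟩ := Group.mem_conjugatesOfSet_iff.1 hx
      rw [Set.mem_singleton_iff] at ha
      subst ha
      obtain ⟨c, hc⟩ := isConj_iff.1 hax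
      have h2 := hall c⁻¹
      rw [inv_inv, hc] at h2
      exact h2
    rcases (inferInstance : (normalClosure ({y} : Set G)).Normal).eq_bot_or_eq_top with h | h
    · exfalso
      have h2 : y ∈ normalClosure ({y} : Set G) := subset_normalClosure (Set.mem_singleton y)
      rw [h, mem_bot] at h2
      exact hy1 h2
    · rw [h] at h1
      exact top_le_iff.1 h1
  have hrel : M.relIndex K < d := by
    have h1 := relIndex_mul_index hMK
    by_contra h
    push Not at h
    have h2 : p * d * d ≤ M.index := by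
      rw [← h1, mul_comm (M.relIndex K)]
      exact Nat.mul_le_mul hKidx h
    omega
  apply hKlt.not_ge
  intro k hkK
  -- `C ≤ k M k⁻¹`
  have hCC : ⁅C, C⁆ = C := by
    rw [← map_subtype_commutator, hperf, ← MonoidHom.range_eq_map, range_subtype]
  have hMC : ⁅M, M⁆ ≤ C := by
    rw [commutator_le]
    intro a ha b hb
    have key : ∀ m ∈ M, ∃ i : ℤ, m * y * m⁻¹ = y ^ i := by
      intro m hm
      obtain ⟨i, hi⟩ := mem_zpowers_iff.1 ((mem_normalizer_iff.1 hm y).1 (mem_zpowers y))
      exact ⟨i, hi.symm⟩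
    obtain ⟨i, hi⟩ := key a⁻¹ (M.inv_mem ha)
    obtain ⟨j, hj⟩ := key b⁻¹ (M.inv_mem hb)
    have e1 : (a⁻¹ * b⁻¹) * y * (a⁻¹ * b⁻¹)⁻¹ = y ^ (i * j) := by
      calc (a⁻¹ * b⁻¹) * y * (a⁻¹ * b⁻¹)⁻¹ = a⁻¹ * (b⁻¹ * y * b⁻¹⁻¹) * a⁻¹⁻¹ := by group
        _ = (a⁻¹ * y * a⁻¹⁻¹) ^ j := by rw [hj, conj_zpow]
        _ = y ^ (i * j) := by rw [hi, zpow_mul]
    have e2 : (b⁻¹ * a⁻¹) * y * (b⁻¹ * a⁻¹)⁻¹ = y ^ (i * j) := by
      calc (b⁻¹ * a⁻¹) * y * (b⁻¹ * a⁻¹)⁻¹ = b⁻¹ * (a⁻¹ * y * a⁻¹⁻¹) * b⁻¹⁻¹ := by group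
        _ = (b⁻¹ * y * b⁻¹⁻¹) ^ i := by rw [hi, conj_zpow]
        _ = y ^ (i * j) := by rw [hj, mul_comm i j, zpow_mul]
    rw [hCmem, commutatorElement_def]
    have e3 : (a⁻¹ * b⁻¹) * y * (a⁻¹ * b⁻¹)⁻¹ = (b⁻¹ * a⁻¹) * y * (b⁻¹ * a⁻¹)⁻¹ := e1.trans e2.symm
    calc a * b * a⁻¹ * b⁻¹ * y = (b⁻¹ * a⁻¹)⁻¹ * ((a⁻¹ * b⁻¹) * y * (a⁻¹ * b⁻¹)⁻¹) * (a⁻¹ * b⁻¹) := by group
      _ = (b⁻¹ * a⁻¹)⁻¹ * ((b⁻¹ * a⁻¹) * y * (b⁻¹ * a⁻¹)⁻¹) * (a⁻¹ * b⁻¹) := by rw [e3]
      _ = y * (a * b * a⁻¹ * b⁻¹) := by group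
  have hle : ∀ c ∈ C, k⁻¹ * c * k ∈ M := by
    let Mk : Subgroup G := M.map (MulAut.conj k).toMonoidHom
    have h1 : Mk.relIndex K = M.relIndex K := by
      have h2 : K.map (MulAut.conj k).toMonoidHom = K := by
        refine eq_of_le_of_card_ge ?_ (card_map_of_injective (MulAut.conj k).injective).ge
        rintro _ ⟨c, hc, rfl⟩
        exact K.mul_mem (K.mul_mem hkK hc) (K.inv_mem hkK)
      have h3 := relIndex_map_map_of_injective (f := (MulAut.conj k).toMonoidHom) M K (MulAut.conj k).injective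
      rw [h2] at h3
      exact h3
    have h2 : Mk.relIndex C ≤ Mk.relIndex K := relIndex_le_of_le_right (hCM.trans hMK)
      (index_ne_zero_of_finite (H := Mk.subgroupOf K))
    have h3 := eq_top_of_index_lt f hs hZ hperf hmin (S := Mk.subgroupOf C) (by
      have : (Mk.subgroupOf C).index = Mk.relIndex C := rfl
      omega)
    intro c hc
    have h4 : (⟨c, hc⟩ : C) ∈ Mk.subgroupOf C := by rw [h3]; exact mem_top _
    obtain ⟨m, hm, hmc⟩ := mem_subgroupOf.1 h4
    have h5 : k * m * k⁻¹ = c := hmc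
    have h6 : k⁻¹ * c * k = m := by rw [← h5]; group
    rw [h6]
    exact hm
  have hle2 : C.map (MulAut.conj k⁻¹).toMonoidHom ≤ C := by
    have h1 : C.map (MulAut.conj k⁻¹).toMonoidHom ≤ M := by
      rintro _ ⟨c, hc, rfl⟩
      have := hle c hc
      show k⁻¹ * c * k⁻¹⁻¹ ∈ M
      rwa [inv_inv]
    calc C.map (MulAut.conj k⁻¹).toMonoidHom = ⁅C, C⁆.map (MulAut.conj k⁻¹).toMonoidHom := by rw [hCC]
      _ = ⁅C.map (MulAut.conj k⁻¹).toMonoidHom, C.map (MulAut.conj k⁻¹).toMonoidHom⁆ := map_commutator _ _ _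
      _ ≤ ⁅M, M⁆ := commutator_mono h1 h1
      _ ≤ C := hMC
  have heq : C.map (MulAut.conj k⁻¹).toMonoidHom = C :=
    eq_of_le_of_card_ge hle2 (card_map_of_injective (MulAut.conj k⁻¹).injective).ge
  -- `k⁻¹ y k` is central in `C`
  have h1 : k⁻¹ * y * k ∈ C := by
    have := hle2 (mem_map_of_mem _ hyC)
    have h2 : (MulAut.conj k⁻¹).toMonoidHom y = k⁻¹ * y * k := by
      show k⁻¹ * y * k⁻¹⁻¹ = _
      rw [inv_inv]
    rwa [h2] at this
  have h2 : ∀ c ∈ C, c * (k⁻¹ * y * k) = (k⁻¹ * y * k) * c := by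
    intro c hc
    rw [← heq] at hc
    obtain ⟨c', hc', rfl⟩ := hc
    have h3 : (MulAut.conj k⁻¹).toMonoidHom c' = k⁻¹ * c' * k := by
      show k⁻¹ * c' * k⁻¹⁻¹ = _
      rw [inv_inv]
    have h4 : c' * y = y * c' := (hCmem c').1 hc'
    rw [h3]
    calc k⁻¹ * c' * k * (k⁻¹ * y * k) = k⁻¹ * (c' * y) * k := by group
      _ = k⁻¹ * (y * c') * k := by rw [h4]
      _ = _ := by group
  have h3 : (⟨k⁻¹ * y * k, h1⟩ : C) ∈ f.ker := by
    rw [MonoidHom.mem_ker]
    have hcen : f ⟨k⁻¹ * y * k, h1⟩ ∈ center H := by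
      rw [mem_center_iff]
      intro b
      obtain ⟨c, rfl⟩ := hs b
      rw [← map_mul, ← map_mul]
      congr 1
      exact Subtype.ext (h2 c c.2)
    rcases (inferInstance : (center H).Normal).eq_bot_or_eq_top with h | h
    · rw [h, mem_bot] at hcen
      exact hcen
    · exfalso
      apply hna
      intro a b
      have : b ∈ center H := by rw [h]; exact mem_top b
      exact mem_center_iff.1 this a
  have h4 : k⁻¹ * y * k ∈ zpowers y := (hkmem _).1 h3
  have h5 : k⁻¹ ∈ M := by
    refine mem_normalizer_fintype fun a ha => ?_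
    obtain ⟨i, rfl⟩ := mem_zpowers_iff.1 ha
    rw [inv_inv]
    have h6 : k⁻¹ * y ^ i * k = (k⁻¹ * y * k) ^ i := by
      have := conj_zpow (i := i) (a := k⁻¹) (b := y)
      rw [inv_inv] at this
      exact this.symm
    show k⁻¹ * y ^ i * k ∈ zpowers y
    rw [h6]
    exact zpow_mem h4 i
  exact inv_inv k ▸ M.inv_mem h5

/-- **Maximality of `N(⟨y⟩)`.** -/
theorem coatom_of_cov {G H : Type*} [Group G] [Finite G] [IsSimpleGroup G] [Group H] [IsSimpleGroup H]
    (hna : ¬ ∀ a b : H, a * b = b * a) {y : G} {p : ℕ} (hp : p.Prime) (ho : orderOf y = p)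
    (f : ↥(centralizer ({y} : Set G)) →* H) (hs : Function.Surjective f) (hk : ∀ c, f c = 1 ↔ (c : G) ∈ zpowers y)
    (hy : (⟨y, mem_centralizer_singleton_iff.2 rfl⟩ : ↥(centralizer ({y} : Set G))) ∈
      commutator ↥(centralizer ({y} : Set G))) {d : ℕ} (hmin : ∀ S : Subgroup H, S ≠ ⊤ → d ≤ S.index)
    (hidx : (normalizer ((zpowers y : Subgroup G) : Set G)).index < p * d * d)
    (hM : normalizer ((zpowers y : Subgroup G) : Set G) ≠ ⊤) :
    IsCoatom (normalizer ((zpowers y : Subgroup G) : Set G)) :=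
  coatom_aux hna hp ho rfl _ f hs hk hy hmin hidx hM

end Cfsg.Agent.H212.SuzFive
end

-- part: H212/SuzFive/RankThree
section
/-!
# Maximality from the subdegrees of a rank three action (helper212)
-/

set_option autoImplicit false

namespace Cfsg.Agent.H212.SuzFive

open Subgroup

/-- `H` has index `n = 1 + a + b` and orbits of lengths `a ≠ b` on the cosets different from the fixed point, and neither
`1 + a` nor `1 + b` divides `n`: then `H` is maximal. -/
theorem coatom_of_rank_three {G : Type*} [Group G] [Finite G] {H : Subgroup G} {n a b : ℕ} (hn : H.index = n)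
    (hab : n = 1 + a + b) (ha : 1 < a) (hb : 1 < b) (hne : a ≠ b) (hda : ¬ (1 + a) ∣ n) (hdb : ¬ (1 + b) ∣ n)
    (hex : ∃ q₁ q₂ : G ⧸ H, (MulAction.orbit H q₁).ncard = a ∧ (MulAction.orbit H q₂).ncard = b) :
    IsCoatom H := by
  classical
  obtain ⟨q₁, q₂, h1, h2⟩ := hex
  have hfinq : Finite (G ⧸ H) := inferInstance
  let o : G ⧸ H := ((1 : G) : G ⧸ H)
  have ho : MulAction.orbit H o = {o} := by
    ext q
    rw [Set.mem_singleton_iff]
    constructor
    · rintro ⟨h, rfl⟩
      show (((h : G) * 1 : G) : G ⧸ H) = ((1 : G) : G ⧸ H)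
      rw [mul_one, QuotientGroup.eq, mul_one]
      exact H.inv_mem h.2
    · rintro rfl
      exact MulAction.mem_orbit_self _
  -- the three orbits are disjoint
  have hd : ∀ {x y : G ⧸ H}, (MulAction.orbit H x).ncard ≠ (MulAction.orbit H y).ncard →
      Disjoint (MulAction.orbit H x) (MulAction.orbit H y) := by
    intro x y hxy
    rw [Set.disjoint_left]
    intro z hz hz'
    apply hxy
    rw [← MulAction.orbit_eq_iff.2 hz, ← MulAction.orbit_eq_iff.2 hz']
  have ho1 : (MulAction.orbit H o).ncard = 1 := by rw [ho, Set.ncard_singleton]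
  have d12 := hd (x := q₁) (y := q₂) (by rw [h1, h2]; exact hne)
  have d01 := hd (x := o) (y := q₁) (by rw [h1, ho1]; omega)
  have d02 := hd (x := o) (y := q₂) (by rw [h2, ho1]; omega)
  have hcard : Nat.card (G ⧸ H) = n := hn
  have hU : MulAction.orbit H o ∪ MulAction.orbit H q₁ ∪ MulAction.orbit H q₂ = Set.univ := by
    apply Set.eq_of_subset_of_ncard_le (Set.subset_univ _) ?_ (Set.toFinite _)
    rw [Set.ncard_univ, hcard, Set.ncard_union_eq (Set.disjoint_union_left.2 ⟨d02, d12⟩),
      Set.ncard_union_eq d01, ho1, h1, h2, hab]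
  refine ⟨?_, fun K hK => ?_⟩
  · intro h
    rw [h, index_top] at hn
    omega
  · by_contra hKtop
    let B : Set (G ⧸ H) := (fun k : G => (k : G ⧸ H)) '' (K : Set G)
    have hBinv : ∀ (h : H) (q : G ⧸ H), q ∈ B → h • q ∈ B := by
      rintro h _ ⟨k, hk, rfl⟩
      exact ⟨h * k, K.mul_mem (hK.le h.2) hk, rfl⟩
    have horb : ∀ q : G ⧸ H, MulAction.orbit H q ⊆ B ∨ Disjoint (MulAction.orbit H q) B := by
      intro q
      by_cases hq : Disjoint (MulAction.orbit H q) B
      · exact Or.inr hq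
      · left
        rw [Set.not_disjoint_iff] at hq
        obtain ⟨z, hz, hzB⟩ := hq
        rw [← MulAction.orbit_eq_iff.2 hz]
        rintro _ ⟨h, rfl⟩
        exact hBinv h z hzB
    -- `|B| = |K : H|`
    have hBcard : B.ncard = H.relIndex K := by
      have hr : H.relIndex K = Nat.card (K ⧸ H.subgroupOf K) := rfl
      rw [hr, ← Nat.card_coe_set_eq]
      symm
      refine Nat.card_congr (Equiv.ofBijective (fun q : K ⧸ H.subgroupOf K =>
        (⟨Quotient.liftOn' q (fun k : K => ((k : G) : G ⧸ H)) (fun x y hxy => ?_), ?_⟩ : B)) ⟨?_, ?_⟩)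
      · rw [QuotientGroup.leftRel_apply] at hxy
        rw [QuotientGroup.eq]
        exact mem_subgroupOf.1 hxy
      · induction q using QuotientGroup.induction_on with
        | H k => exact ⟨k, k.2, rfl⟩
      · intro x y hxy
        induction x using QuotientGroup.induction_on with
        | H x =>
          induction y using QuotientGroup.induction_on with
          | H y =>
            have h3 : ((x : G) : G ⧸ H) = ((y : G) : G ⧸ H) := congrArg Subtype.val hxy
            rw [QuotientGroup.eq] at h3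
            exact QuotientGroup.eq.2 (mem_subgroupOf.2 h3)
      · rintro ⟨_, k, hk, rfl⟩
        exact ⟨((⟨k, hk⟩ : K) : K ⧸ H.subgroupOf K), rfl⟩
    have hrel := relIndex_mul_index hK.le
    rw [hn, ← hBcard] at hrel
    have hoB : MulAction.orbit H o ⊆ B := by
      rw [ho, Set.singleton_subset_iff]
      exact ⟨1, K.one_mem, rfl⟩
    -- the size of `B`
    have hBU : B = (MulAction.orbit H o ∩ B) ∪ (MulAction.orbit H q₁ ∩ B) ∪ (MulAction.orbit H q₂ ∩ B) := by
      rw [← Set.union_inter_distrib_right, ← Set.union_inter_distrib_right, hU, Set.univ_inter]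
    have hB1 : B.ncard = 1 + (MulAction.orbit H q₁ ∩ B).ncard + (MulAction.orbit H q₂ ∩ B).ncard := by
      conv_lhs => rw [hBU]
      rw [Set.ncard_union_eq, Set.ncard_union_eq, Set.inter_eq_left.2 hoB, ho1]
      · exact d01.mono Set.inter_subset_left Set.inter_subset_left
      · exact (Set.disjoint_union_left.2 ⟨d02, d12⟩).mono
          (Set.union_subset_union Set.inter_subset_left Set.inter_subset_left) Set.inter_subset_left
    have hKidx : K.index ≠ 1 := fun h => hKtop (index_eq_one.1 h)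
    have hBne : B.ncard ≠ 1 := by
      rw [hBcard]
      intro h
      exact hK.not_ge (relIndex_eq_one.1 h)
    have hdvd : B.ncard ∣ n := ⟨_, hrel.symm⟩
    have c1 : (MulAction.orbit H q₁ ∩ B).ncard = a ∨ (MulAction.orbit H q₁ ∩ B).ncard = 0 := by
      rcases horb q₁ with h | h
      · left; rw [Set.inter_eq_left.2 h, h1]
      · right; rw [h.inter_eq, Set.ncard_empty]
    have c2 : (MulAction.orbit H q₂ ∩ B).ncard = b ∨ (MulAction.orbit H q₂ ∩ B).ncard = 0 := by
      rcases horb q₂ with h | h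
      · left; rw [Set.inter_eq_left.2 h, h2]
      · right; rw [h.inter_eq, Set.ncard_empty]
    rcases c1 with c1 | c1 <;> rcases c2 with c2 | c2 <;> rw [c1, c2] at hB1
    · rw [hB1, ← hab] at hrel
      apply hKidx
      have hpos : 0 < n := by omega
      exact Nat.eq_of_mul_eq_mul_left hpos (by rw [hrel, mul_one])
    · have e : B.ncard = 1 + a := by omega
      exact hda (e ▸ hdvd)
    · have e : B.ncard = 1 + b := by omega
      exact hdb (e ▸ hdvd)
    · exact hBne (by rw [hB1])

end Cfsg.Agent.H212.SuzFive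
end

-- part: H212/SuzFive/Row
section
/-!
# Row `Suz` of S5906/S5907 (helper212)

The five subgroups: `G₂(4)` (rank three action of degree 1782), `N(3A) = 3.U₄(3):2`, the normalizers of the Sylow subgroups
for 7 and 11, `3⁵:M₁₁` (which contains the normalizer of a Sylow 3-subgroup).
-/

set_option autoImplicit false

namespace Cfsg.Agent.H212.SuzFive

open Subgroup Cfsg.Agent.OrdDiv Cfsg.Agent.H940 Cfsg.Agent.H940.Eng Cfsg.Agent.H940.Eng.D
open Cfsg.Agent.H940.MaxCls
open Cfsg.Agent.SuzThree.ThreeWr (y0)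
open Cfsg.Agent.SuzThree.NormElts (NA)

abbrev G : Type := Cfsg.Spor.Suz

/-- the local data: the prime `r`, a multiple of `|C(R)|`, the factorization of a multiple of `|N(R)|` -/
def loc : List LD := [⟨7, 84, [(2, 3), (3, 2), (7, 1)]⟩, ⟨11, 11, [(2, 1), (5, 1), (11, 1)]⟩]

theorem simple : IsSimpleGroup G := Cfsg.Agent.S1694.result.1
theorem card : Nat.card G = n_suz := Cfsg.Agent.SporadicRecognition.SuzOrder.card_Suz
theorem fin : Finite G := Nat.finite_of_card_ne_zero (by rw [card]; decide)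

theorem not_comm : ¬ ∀ a b : G, a * b = b * a := by
  intro h
  haveI := fin
  haveI := simple
  letI : CommGroup G := { (inferInstance : Group G) with mul_comm := h }
  have h1 := (IsSimpleGroup.prime_card (α := G))
  rw [card] at h1
  rcases h1.eq_one_or_self_of_dvd 2 (by decide +kernel) with h2 | h2 <;> exact absurd h2 (by decide +kernel)

theorem data7 {R : Subgroup G} (hR : Nat.card R = 7) :
    Nat.card (centralizer (R : Set G)) = 84 ∧ Nat.card (normalizer (R : Set G)) = 504 := by
  haveI := fin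
  haveI : Fact (Nat.Prime 7) := ⟨by norm_num⟩
  have h2 : ¬ 7 ^ 2 ∣ Nat.card G := by rw [card]; decide +kernel
  obtain ⟨S, hS⟩ := H904.SylOne.exists_sylow hR h2
  obtain ⟨⟨e⟩, hN⟩ := H812.SuzSeven.main (G := G) ⟨MulEquiv.refl _⟩ S
  rw [hS] at hN
  refine ⟨?_, hN⟩
  have h3 : Nat.card (centralizer ((S : Subgroup G) : Set G)) = 84 := by
    rw [Nat.card_congr e.toEquiv, Nat.card_prod, Lib.VonDyck.card_alternating4, Nat.card_congr Multiplicative.toAdd,
      Nat.card_zmod]
  rw [hS] at h3
  exact h3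

theorem data11 {R : Subgroup G} (hR : Nat.card R = 11) :
    Nat.card (centralizer (R : Set G)) = 11 ∧ Nat.card (normalizer (R : Set G)) = 110 := by
  haveI := fin
  haveI := simple
  have ho : orderOf Cfsg.Agent.OddHalf.Table.SuzRep.x = 11 := Cfsg.Agent.OddHalf.Table.OutSuz.order_x
  have h : centralizer ({Cfsg.Agent.OddHalf.Table.SuzRep.x} : Set G) = zpowers Cfsg.Agent.OddHalf.Table.SuzRep.x := by
    apply le_antisymm
    · intro c hc
      obtain ⟨i, rfl⟩ := Cfsg.Agent.OddHalf.Table.OutSuz.cent_x c (mem_centralizer_singleton_iff.1 hc)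
      exact ⟨i, zpow_natCast _ _⟩
    · exact zpowers_le.2 (mem_centralizer_singleton_iff.2 rfl)
  have hR0 : Nat.card (zpowers (Cfsg.Agent.OddHalf.Table.SuzRep.x : G)) = 11 := by rw [Nat.card_zpowers, ho]
  refine cn_exact not_comm card (by decide +kernel) (by decide +kernel) (fC := [(11, 1)]) (by decide +kernel) hR0 ?_
    (by decide +kernel) hR
  rw [H904.SylOne.centralizer_zpowers_eq, h, hR0]
  decide +kernel

theorem ctx (B : Base) : Ctx G l_suz n_suz o_suz loc where
  fin := fin
  simple := simple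
  card := card
  val := v_suz
  nodup := nd_suz
  ords := ords_suz B
  loc := by
    haveI := fin
    haveI := simple
    intro ld hld
    simp only [loc, List.mem_cons, List.not_mem_nil, or_false] at hld
    rcases hld with rfl | rfl
    · exact loc_of_eq card (by decide +kernel) (by decide +kernel) (by decide +kernel) fun R hR => by
        obtain ⟨h1, h2⟩ := data7 hR
        rw [h1, h2]; decide
    · exact loc_of_eq card (by decide +kernel) (by decide +kernel) (by decide +kernel) fun R hR => by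
        obtain ⟨h1, h2⟩ := data11 hR
        rw [h1, h2]; decide

/-! ### `G₂(4)` -/

theorem exists_G24 : ∃ A : Subgroup G, IsCoatom A ∧ A.index = 1782 :=
  ⟨_, by haveI := fin
         exact coatom_of_rank_three (a := 416) (b := 1365) S1680.result.1 (by norm_num) (by norm_num) (by norm_num)
          (by norm_num) (by norm_num) (by norm_num) S1680.result.2, S1680.result.1⟩

/-! ### `3.U₄(3):2` -/

/-- the normalizer of `⟨y0⟩` -/
noncomputable def M : Subgroup G := normalizer ((zpowers y0 : Subgroup G) : Set G)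

theorem index_M : M.index = 22880 := by
  haveI := fin
  have hR : Nat.card (zpowers (y0 : G)) = 3 := by rw [Nat.card_zpowers, CpAutSuz.Local.orderOf_y0]
  haveI : Fact (Nat.Prime 3) := ⟨Nat.prime_three⟩
  obtain ⟨e, he, hN⟩ := H904.SylOne.card_nc hR
  have hC := (centralizer ((zpowers y0 : Subgroup G) : Set G)).card_mul_index
  rw [H904.SylOne.centralizer_zpowers_eq] at hC hN
  rw [H812.FullSuz.index_y0, card] at hC
  have hM := M.card_mul_index
  rw [card] at hM
  have hM' : Nat.card M = Nat.card (centralizer ({y0} : Set G)) * e := hN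
  have he1 : e ≠ 1 := by
    rintro rfl
    rw [mul_one] at hN
    have hle : centralizer ({y0} : Set G) ≤ normalizer ((zpowers y0 : Subgroup G) : Set G) := by
      rw [← H904.SylOne.centralizer_zpowers_eq]
      exact centralizer_le_normalizer _
    have heq := eq_of_le_of_card_ge hle hN.le
    have hd : Cfsg.Agent.SporadicRecognition.SuzOrder.el [.d] ∈ normalizer ((zpowers y0 : Subgroup G) : Set G) := by
      refine mem_normalizer_fintype fun a ha => ?_
      obtain ⟨k, rfl⟩ := mem_zpowers_iff.1 ha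
      rw [← conj_zpow, H811.SuzYZero.inv_y0]
      exact zpow_mem (inv_mem (mem_zpowers _)) k
    rw [← heq] at hd
    have h1 := mem_centralizer_singleton_iff.1 hd
    have h2 := H811.SuzYZero.inv_y0
    rw [h1, mul_inv_cancel_right] at h2
    have h3 : y0 ^ 2 = 1 := by
      rw [pow_two]
      nth_rw 1 [h2]
      exact inv_mul_cancel _
    have h4 := orderOf_dvd_of_pow_eq_one h3
    rw [CpAutSuz.Local.orderOf_y0] at h4
    norm_num at h4
  have he2 : e = 2 := by
    rcases (Nat.dvd_prime Nat.prime_two).1 he with h | h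
    · exact absurd h he1
    · exact h
  rw [hM', he2] at hM
  have h5 : Nat.card (centralizer ({y0} : Set G)) = 9797760 := by
    have : n_suz = 9797760 * 45760 := by decide +kernel
    rw [this] at hC
    exact Nat.eq_of_mul_eq_mul_right (by norm_num) hC
  rw [h5] at hM
  have : n_suz = 9797760 * 2 * 22880 := by decide +kernel
  rw [this] at hM
  exact Nat.eq_of_mul_eq_mul_left (by norm_num) hM

theorem min_H (S : Subgroup LThreeCo1Twelve.Gam.H) (hS : S ≠ ⊤) : 112 ≤ S.index := by
  obtain ⟨F, i1, i2, hF, ⟨e⟩⟩ := Cfsg.Agent.H811.PsuH.psu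
  have h1 := (Cfsg.Agent.S2150.result (F := F) 3 (by rw [hF]; norm_num) (by norm_num)).1 (S.map e.toMonoidHom) (by
    intro h
    apply hS
    rw [eq_top_iff]
    intro x _
    have h2 : e x ∈ S.map e.toMonoidHom := by rw [h]; exact mem_top _
    obtain ⟨y, hy, hyx⟩ := h2
    rw [← e.injective hyx]
    exact hy)
  have h2 : (S.map e.toMonoidHom).index = S.index := index_map_equiv S e
  rw [h2] at h1
  exact h1

theorem coatom_M : IsCoatom M := by
  haveI := fin
  haveI := simple
  haveI := Cfsg.Agent.LThreeCo1Twelve.Gam.simple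
  obtain ⟨g, hs, hk⟩ := Cfsg.Agent.H811.SuzCov.cov
  refine coatom_of_cov (H := LThreeCo1Twelve.Gam.H) (fun h => Cfsg.Agent.LThreeCo1Twelve.Gam.not_comm ⟨⟨h⟩⟩)
    Nat.prime_three CpAutSuz.Local.orderOf_y0 g hs hk H811.SuzYZero.mem_comm (d := 112) min_H ?_ ?_
  · have := index_M
    unfold M at this
    rw [this]
    norm_num
  · intro h
    have := index_M
    unfold M at this
    rw [h, index_top] at this
    norm_num at this

/-- the row `Suz` -/
theorem five (B : Base) : Sep 5 Cfsg.Spor.Suz := by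
  have c := ctx B
  haveI := c.fin
  haveI := c.simple
  have hc := card
  obtain ⟨R7, h7⟩ := exists_card_eq (G := G) (r := 7) (by decide +kernel) (by rw [hc]; decide +kernel)
  obtain ⟨R11, h11⟩ := exists_card_eq (G := G) (r := 11) (by decide +kernel) (by rw [hc]; decide +kernel)
  have c7 := (data7 h7).2
  have c11 := (data11 h11).2
  obtain ⟨A, hA, hAi⟩ := exists_G24
  have cA : Nat.card A = 251596800 := by
    have h := A.card_mul_index
    rw [hAi, hc, show n_suz = 251596800 * 1782 by decide +kernel] at h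
    exact Nat.eq_of_mul_eq_mul_right (by norm_num) h
  have cM : Nat.card M = 19595520 := by
    have h := M.card_mul_index
    rw [index_M, hc, show n_suz = 19595520 * 22880 by decide +kernel] at h
    exact Nat.eq_of_mul_eq_mul_right (by norm_num) h
  have cN : Nat.card NA = 1924560 := by rw [BpSpor.SuzThreeCentral.card_NA]
  have ne : ∀ {R : Subgroup G} {k : ℕ}, Nat.card R = k → (k != n_suz) = true → R ≠ ⊤ := by
    intro R k h1 h2 h3
    rw [h3, card_top, hc] at h1
    rw [bne_iff_ne] at h2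
    exact h2 h1.symm
  have f7 : ∀ p ∈ [7], Full p (normalizer (R7 : Set G)) := by
    intro p hp; rw [List.mem_singleton.1 hp]
    exact full_of_card hc (by decide +kernel) (by decide +kernel) h7
  have f11 : ∀ p ∈ [11], Full p (normalizer (R11 : Set G)) := by
    intro p hp; rw [List.mem_singleton.1 hp]
    exact full_of_card hc (by decide +kernel) (by decide +kernel) h11
  have f3 : ∀ p ∈ [3], Full p NA := by
    intro p hp; rw [List.mem_singleton.1 hp]
    exact exists_full
  exact sep_five hA.1 coatom_M.1 (ne c7 (by decide +kernel)) (ne c11 (by decide +kernel)) (ne cN (by decide +kernel))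
    (apart_of_coatoms hA coatom_M (by rw [cA, cM]; norm_num))
    (apart_of_coatom_full hA (f7 7 (by simp)) (by rw [hAi]; decide))
    (apart_of_coatom_dvd hA c11.symm.dvd (by rw [cA]; norm_num))
    (apart_of_coatom_dvd hA cN.symm.dvd (by rw [cA]; norm_num))
    (apart_of_coatom_full coatom_M (f7 7 (by simp)) (by rw [index_M]; decide))
    (apart_of_coatom_dvd coatom_M c11.symm.dvd (by rw [cM]; norm_num))
    (apart_of_coatom_dvd coatom_M cN.symm.dvd (by rw [cM]; norm_num))
    (c.apart c7.symm.dvd c11.symm.dvd [(2, 10), (3, 5), (5, 1), (13, 1)] _ _ 60 f7 f11 (by exact Cfsg.Agent.H940.EngF.chk_fast (by decide +kernel)))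
    (c.apart c7.symm.dvd cN.symm.dvd [(2, 9), (5, 1), (13, 1)] _ _ 60 f7 f3 (by exact Cfsg.Agent.H940.EngF.chk_fast (by decide +kernel)))
    (c.apart c11.symm.dvd cN.symm.dvd [(2, 9), (5, 1), (7, 1), (13, 1)] _ _ 60 f11 f3 (by decide +kernel))

end Cfsg.Agent.H212.SuzFive
end

private theorem dce_0dd844e728b6 : _root_.True := by
  try have : _root_.True := by simp only [_root_.Cfsg.Agent.H212.SuzFive.loc.eq_1]
  exact _root_.True.intro
end

-- part: H147/Fpr/Suz
section
prune_inst 0x400000
set_option linter.all false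
open scoped Cfsg.Agent.FastGrp

-- part: H147/Fpr/Refine
section
/-!
# The refined local test at the prime itself (helper147)

If `p` divides `|G|` exactly once and `f` is the number of fixed points of `x` of order `p` on the cosets of `H`, then
`|N_H(⟨x⟩)| = |N_G(⟨x⟩)| / f`, and the order of `H` must pass the test of the engine for this smaller normalizer.
-/

set_option autoImplicit false

namespace Cfsg.Agent.H147.Fpr

open Subgroup MulAction Cfsg.Agent.H409 Cfsg.Agent.H940.Eng Cfsg.Agent.OrdDiv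

universe u

section

variable {S : Type u} [Group S] [Finite S]

/-- `f |N_H(R)| = |N(R)|` -/
theorem fix_mul_norm {p : ℕ} (hp : p.Prime) (h2 : ¬ p ^ 2 ∣ Nat.card S) {H : Subgroup S} {x : S}
    (hxH : x ∈ H) (hxo : orderOf x = p) :
    Nat.card (fixedBy (S ⧸ H) x) * Nat.card (normalizer ((zpowers (⟨x, hxH⟩ : H) : Subgroup H) : Set H)) =
      Nat.card (normalizer ((zpowers x : Subgroup S) : Set S)) := by
  have hfp := Fact.mk hp
  set R : Subgroup S := zpowers x with hR
  have hRc : Nat.card R = p := by rw [hR, Nat.card_zpowers, hxo]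
  have hRH : R ≤ H := zpowers_le.2 hxH
  set M := normalizer (R : Set S) with hM
  have hH2 : ¬ p ^ 2 ∣ Nat.card H := fun h => h2 (h.trans (card_subgroup_dvd_card H))
  have hfix : fixedBy (S ⧸ H) x ⊆ orbit M ((1 : S) : S ⧸ H) := by
    intro w hw
    obtain ⟨g, rfl⟩ := QuotientGroup.mk_surjective w
    have h3 : ((x * g : S) : S ⧸ H) = (g : S) := hw
    have h4 := QuotientGroup.eq.1 h3.symm
    rw [← mul_assoc] at h4
    set R' : Subgroup S := zpowers (g⁻¹ * x * g) with hR'
    have hR'c : Nat.card R' = p := by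
      rw [hR', Nat.card_zpowers]
      have h5 : g⁻¹ * x * g = MulAut.conj g⁻¹ x := by simp
      rw [h5, MulEquiv.orderOf_eq, hxo]
    have hR'H : R' ≤ H := zpowers_le.2 h4
    obtain ⟨h, hh⟩ := exists_conj_le (X := H) hp hH2 (R := R.subgroupOf H)
      (by rw [Nat.card_congr (subgroupOfEquivOfLe hRH).toEquiv, hRc]) (L := R'.subgroupOf H)
      (by rw [Nat.card_congr (subgroupOfEquivOfLe hR'H).toEquiv, hR'c])
    have h6 : (h : S) * x * (h : S)⁻¹ ∈ R' := hh ⟨⟨x, hxH⟩, (mem_subgroupOf.2 (mem_zpowers x)), rfl⟩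
    have h7 : (g * (h : S)) * x * (g * (h : S))⁻¹ ∈ R := by
      obtain ⟨j, hj⟩ := mem_zpowers_iff.1 h6
      rw [mem_zpowers_iff]
      refine ⟨j, ?_⟩
      have h8 : (g⁻¹ * x * g) ^ j = g⁻¹ * x ^ j * g := by
        have := conj_zpow (i := j) (a := g⁻¹) (b := x)
        rw [inv_inv] at this
        exact this
      rw [h8] at hj
      calc x ^ j = g * (g⁻¹ * x ^ j * g) * g⁻¹ := by group
        _ = (g * (h : S)) * x * (g * (h : S))⁻¹ := by rw [hj]; group
    have h9 : g * (h : S) ∈ M := by
      rw [hM, ← conj_eq_iff]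
      apply eq_of_le_of_card_ge
      · rintro _ ⟨z, hz, rfl⟩
        obtain ⟨j, rfl⟩ := mem_zpowers_iff.1 hz
        change (g * (h : S)) * x ^ j * (g * (h : S))⁻¹ ∈ R
        rw [← conj_zpow]
        exact zpow_mem h7 j
      · rw [card_map_of_injective (MulAut.conj _).injective]
    refine ⟨⟨g * (h : S), h9⟩, ?_⟩
    change (((g * (h : S)) * 1 : S) : S ⧸ H) = (g : S)
    apply QuotientGroup.eq.2
    have h10 : (g * (h : S) * 1)⁻¹ * g = (h : S)⁻¹ := by group
    rw [h10]
    exact inv_mem h.2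
  have hfix' : orbit M ((1 : S) : S ⧸ H) ⊆ fixedBy (S ⧸ H) x := by
    rintro _ ⟨⟨m, hm⟩, rfl⟩
    change ((x * (m * 1) : S) : S ⧸ H) = ((m * 1 : S) : S ⧸ H)
    symm
    apply QuotientGroup.eq.2
    have h3 : (m * 1)⁻¹ * (x * (m * 1)) = m⁻¹ * x * m := by group
    rw [h3]
    apply hRH
    have h4 := (mem_normalizer_iff.1 (inv_mem hm) x).1 (mem_zpowers x)
    rwa [inv_inv] at h4
  have heq : fixedBy (S ⧸ H) x = orbit M ((1 : S) : S ⧸ H) := Set.Subset.antisymm hfix hfix'
  have h4 : Nat.card (orbit M ((1 : S) : S ⧸ H)) * Nat.card (stabilizer M ((1 : S) : S ⧸ H)) = Nat.card M := by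
    rw [Nat.card_congr (orbitEquivQuotientStabilizer M ((1 : S) : S ⧸ H)), mul_comm]
    exact card_mul_index (stabilizer M ((1 : S) : S ⧸ H))
  rw [heq, ← h4]
  congr 1
  -- the stabilizer is `N_H(R)`
  have hst : ∀ m : M, m ∈ stabilizer M ((1 : S) : S ⧸ H) ↔ (m : S) ∈ H := by
    intro m
    rw [mem_stabilizer_iff]
    change (((m : S) * 1 : S) : S ⧸ H) = ((1 : S) : S ⧸ H) ↔ _
    rw [mul_one, eq_comm, QuotientGroup.eq, inv_one, one_mul]
  have hno : ∀ h : H, h ∈ normalizer ((zpowers (⟨x, hxH⟩ : H) : Subgroup H) : Set H) ↔ (h : S) ∈ M := by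
    intro h
    have e : ∀ c : H, c ∈ zpowers (⟨x, hxH⟩ : H) ↔ (c : S) ∈ R := by
      intro c
      rw [mem_zpowers_iff, hR, mem_zpowers_iff]
      constructor
      · rintro ⟨k, rfl⟩
        exact ⟨k, rfl⟩
      · rintro ⟨k, hk⟩
        exact ⟨k, Subtype.ext hk⟩
    rw [mem_normalizer_iff, hM, mem_normalizer_iff]
    constructor
    · intro h1 c
      constructor
      · intro hc
        have := (h1 ⟨c, hRH hc⟩).1 ((e _).2 hc)
        exact (e _).1 this
      · intro hc
        have h3 : c ∈ H := by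
          have := H.mul_mem (H.mul_mem (inv_mem h.2) (hRH hc)) h.2
          have h5 : (h : S)⁻¹ * ((h : S) * c * (h : S)⁻¹) * (h : S) = c := by group
          rwa [h5] at this
        exact (e ⟨c, h3⟩).1 ((h1 ⟨c, h3⟩).2 ((e _).2 hc))
    · intro h1 c
      rw [e, e]
      exact h1 c
  refine Nat.card_congr ⟨fun h => ⟨⟨(h : H), (hno h).1 h.2⟩, (hst _).2 (h : H).2⟩,
    fun m => ⟨⟨((m : M) : S), (hst _).1 m.2⟩, (hno _).2 (m : M).2⟩, fun h => rfl, fun m => rfl⟩

end

/-- the refined test -/
theorem of_refined {G : Type u} [Group G] {l : List (ℕ × ℕ)} {n : ℕ} {ords : List ℕ} {loc : List LD}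
    (c : Ctx G l n ords loc) {p N C : ℕ} (hp : p.Prime) (h2 : ¬ p ^ 2 ∣ n) (hNp : p ∣ n)
    (hN : ∀ R : Subgroup G, Nat.card R = p → Nat.card (centralizer (R : Set G)) ∣ C ∧ Nat.card (normalizer (R : Set G)) = N)
    {H : Subgroup G} {d : ℕ} (hd : H.index = d) (F : ℕ)
    (hF : ((List.range (N / p + 1)).all fun f => !Nat.beq (N % (p * f)) 0 || !Nat.beq (f % p) (d % p) ||
      Nat.ble ((p + 1) * f) d || Nat.beq f F) = true)
    (l' : List (ℕ × ℕ)) (m : ℕ) (hm : m * d = n) (hv : valid l' m = true) (fN' : List (ℕ × ℕ))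
    (hfN : (fN'.all fun x => isPrimeB x.1) = true) (hN' : prodl fN' = N / F)
    (hfeas : feas l' ⟨p, Nat.gcd C (N / F), fN'⟩ ords m = false) :
    ∃ x : G, (∃ k : ℕ, orderOf x = p ^ k) ∧ (p + 1) * Nat.card (fixedBy (G ⧸ H) x) ≤ 1 * Nat.card (G ⧸ H) := by
  have := c.fin
  have hfp := Fact.mk hp
  by_contra hcon
  have hn0 : 0 < n := c.card ▸ Nat.card_pos
  have hd0 : 0 < d := by
    rcases Nat.eq_zero_or_pos d with rfl | h
    · rw [Nat.mul_zero] at hm; omega
    · exact h
  have hcH : Nat.card H = m := by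
    have h1 : Nat.card H * d = m * d := by rw [← hd, Subgroup.card_mul_index, c.card, hd, hm]
    exact Nat.eq_of_mul_eq_mul_right hd0 h1
  have h2' : ¬ p ^ 2 ∣ Nat.card G := by rw [c.card]; exact h2
  have hcard : Nat.card (G ⧸ H) = d := hd
  -- the number of fixed points of an element of `H` of order `p`
  have hf : ∀ x : H, orderOf x = p →
      Nat.card (normalizer ((zpowers x : Subgroup H) : Set H)) = N / F := by
    rintro ⟨x, hxH⟩ hx
    rw [Subgroup.orderOf_mk] at hx
    have h3 := fix_mul_norm hp h2' hxH hx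
    have h4 := H715.Fpr.fix_prime_mem_dvd hp h2' hxH hx
    have h5 := H715.Fpr.fix_modEq hp H hx
    rw [(hN (zpowers x) (by rw [Nat.card_zpowers, hx])).2] at h3 h4
    have hNpos : 0 < N := by
      rw [← (hN (zpowers x) (by rw [Nat.card_zpowers, hx])).2]
      exact Nat.card_pos
    set f := Nat.card (fixedBy (G ⧸ H) x) with hfdef
    have h6 : f ≤ N / p := by
      rw [Nat.le_div_iff_mul_le hp.pos, mul_comm]
      exact Nat.le_of_dvd hNpos h4
    rw [List.all_eq_true] at hF
    have h7 := hF f (List.mem_range.2 (by omega))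
    simp only [Bool.or_eq_true, Bool.not_eq_true', H444.Fpr.beqT, H444.Fpr.beqF, H444.Fpr.bleT] at h7
    rcases h7 with ((h7 | h7) | h7) | h7
    · exact absurd (Nat.mod_eq_zero_of_dvd h4) h7
    · rw [hd] at h5
      exact absurd h5 h7
    · exact absurd ⟨x, ⟨1, by rw [hx, pow_one]⟩, by rw [one_mul, hcard]; exact h7⟩ hcon
    · rw [h7] at h3
      have hF0 : 0 < F := by
        rcases Nat.eq_zero_or_pos F with h | h
        · rw [h, Nat.zero_mul] at h3; omega
        · exact h
      exact (Nat.div_eq_of_eq_mul_right hF0 h3.symm).symm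
  -- `p` divides the order of `H`
  have hpH : p ∣ Nat.card H := by
    by_contra hpH
    obtain ⟨x, hx⟩ := exists_prime_orderOf_dvd_card' (G := G) p (by rw [c.card]; exact hNp)
    apply hcon
    refine ⟨x, ⟨1, by rw [hx, pow_one]⟩, ?_⟩
    have h0 : Nat.card (fixedBy (G ⧸ H) x) = 0 := by
      rw [Nat.card_eq_zero]
      left
      refine ⟨fun w => ?_⟩
      obtain ⟨w, hw⟩ := w
      obtain ⟨g, rfl⟩ := QuotientGroup.mk_surjective w
      have h3 : ((x * g : G) : G ⧸ H) = (g : G) := hw
      have h4 := QuotientGroup.eq.1 h3.symm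
      rw [← mul_assoc] at h4
      apply hpH
      have h5 : orderOf (g⁻¹ * x * g) = p := by
        have h5 : g⁻¹ * x * g = MulAut.conj g⁻¹ x := by simp
        rw [h5, MulEquiv.orderOf_eq, hx]
      rw [← h5]
      exact Subgroup.orderOf_dvd_natCard _ h4
    rw [h0]
    omega
  have hpp : ∀ x ∈ fN', (x.1).Prime := fun x hx => prime_of (List.all_eq_true.1 hfN x hx)
  -- generators
  have hgen : ∀ R : Subgroup H, Nat.card R = p → ∃ x : H, orderOf x = p ∧ R = zpowers x := by
    intro R hR
    obtain ⟨x, hx⟩ := exists_prime_orderOf_dvd_card' p (hR ▸ dvd_rfl : p ∣ Nat.card R)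
    refine ⟨x, by rw [Subgroup.orderOf_coe, hx], ?_⟩
    symm
    apply Subgroup.eq_of_le_of_card_ge
    · rw [zpowers_le]; exact x.2
    · rw [Nat.card_zpowers, Subgroup.orderOf_coe, hx, hR]
  have hloc : Loc H ⟨p, Nat.gcd C (N / F), fN'⟩ := by
    refine ⟨hp, hpp, fun h => h2' (h.trans (card_subgroup_dvd_card H)), fun R hR => ?_⟩
    obtain ⟨x, hx, rfl⟩ := hgen R hR
    have h3 := hf x hx
    have h4 : Nat.card (centralizer ((zpowers x : Subgroup H) : Set H)) ∣ N / F := by
      rw [← h3]
      exact card_dvd_of_le (centralizer_le_normalizer _)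
    refine ⟨Nat.dvd_gcd ?_ h4, ?_⟩
    · have h5 := (hN (zpowers (x : G)) (by rw [Nat.card_zpowers, Subgroup.orderOf_coe, hx])).1
      refine dvd_trans ?_ h5
      have h6 : (centralizer ((zpowers x : Subgroup H) : Set H)).map H.subtype ≤ centralizer ((zpowers (x : G) : Subgroup G) : Set G) := by
        rintro _ ⟨y, hy, rfl⟩
        rw [mem_centralizer_iff]
        rintro _ ⟨k, rfl⟩
        have h7 := mem_centralizer_iff.1 hy (x ^ k) ⟨k, rfl⟩
        exact congrArg Subtype.val h7
      have h7 := card_dvd_of_le h6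
      rwa [Nat.card_congr ((centralizer ((zpowers x : Subgroup H) : Set H)).equivMapOfInjective H.subtype
        H.subtype_injective).toEquiv.symm] at h7
    · show _ ∣ prodl fN'
      rw [hN', ← h3]
  have hords : Ords.{u} m ords := by
    intro T _ _ hs hna hdvd
    exact c.ords T hs hna (hdvd.trans ⟨d, hm.symm⟩)
  have h8 := feas_of (G := H) hv hcH hords hloc (H := ⊤) (by
    rw [Subgroup.card_top]; exact hpH)
  rw [Subgroup.card_top, hcH, hfeas] at h8
  exact absurd h8 (by decide)

end Cfsg.Agent.H147.Fpr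
end

-- part: H147/Fpr/Suz
section
/-!
# Fixed point ratios for `Suz` (helper147)
-/

set_option autoImplicit false
set_option maxRecDepth 100000

namespace Cfsg.Agent.H147.Fpr.Suz

open Subgroup Cfsg Cfsg.Agent.H409 Cfsg.Agent.H940 Cfsg.Agent.H940.Eng Cfsg.Agent.H940.Eng.D
open Cfsg.Agent.H212.SuzFive Cfsg.Agent.H444.Fpr

theorem exists_order {r : ℕ} (hr : r.Prime) (hd : r ∣ n_suz) : ∃ z : G, orderOf z = r := by
  have := fin
  have : Fact r.Prime := ⟨hr⟩
  exact exists_prime_orderOf_dvd_card' r (by rw [card]; exact hd)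

theorem known13 : Known G 13 1 6 := by
  have := fin
  obtain ⟨z, hz, hc⟩ := H474.Suz13.suz_thirteen
  exact Known.of_cent (by norm_num) card (by decide +kernel) (by decide +kernel) hz (by rw [hc]) (by decide +kernel)

theorem known11 : Known G 11 1 10 := by
  have := fin
  obtain ⟨z, hz⟩ := exists_order (r := 11) (by norm_num) (by decide +kernel)
  have h1 : Nat.card (centralizer ({z} : Set G)) = 11 * 1 := by
    rw [← H715.Fpr.cent_zpowers', (data11 (by rw [Nat.card_zpowers, hz])).1]
  exact Known.of_cent (by norm_num) card (by decide +kernel) (by decide +kernel) hz h1 (by decide +kernel)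

theorem known7 : Known G 7 12 6 := by
  have := fin
  obtain ⟨z, hz⟩ := exists_order (r := 7) (by norm_num) (by decide +kernel)
  have h1 : Nat.card (centralizer ({z} : Set G)) = 7 * 12 := by
    rw [← H715.Fpr.cent_zpowers', (data7 (by rw [Nat.card_zpowers, hz])).1]
  exact Known.of_cent (by norm_num) card (by decide +kernel) (by decide +kernel) hz h1 (by decide +kernel)

theorem J_ok : ∀ q ∈ [2, 3, 5, 7, 11, 13], q.Prime ∧ q ∣ n_suz := by
  intro q hq
  simp only [List.mem_cons, List.not_mem_nil, or_false] at hq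
  rcases hq with rfl | rfl | rfl | rfl | rfl | rfl
  all_goals exact ⟨by norm_num, by decide +kernel⟩

theorem D_ok : ∀ d ∈ [(13, 1, 6), (11, 1, 10), (7, 12, 6)], Known G d.1 d.2.1 d.2.2 := by
  intro d hd
  simp only [List.mem_cons, List.not_mem_nil, or_false] at hd
  rcases hd with rfl | rfl | rfl
  · exact known13
  · exact known11
  · exact known7

theorem row_two (B : Base) : FprRow 3 1 2 G :=
  row_comb (ctx B) (p := 2) (by norm_num) (by norm_num) [2, 3, 5, 7, 11, 13] J_ok _ D_ok [] (fun _ h => absurd h List.not_mem_nil) 20 11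
    (by decide +kernel) (by decide +kernel)

theorem row_three (B : Base) : FprRow 4 1 3 G :=
  row_comb (ctx B) (p := 3) (by norm_num) (by norm_num) [2, 3, 5, 7, 11, 13] J_ok _ D_ok [] (fun _ h => absurd h List.not_mem_nil) 20 11
    (by decide +kernel) (by decide +kernel)

theorem row_five (B : Base) : FprRow 6 1 5 G :=
  row_comb (ctx B) (p := 5) (by norm_num) (by norm_num) [2, 3, 5, 7, 11, 13] J_ok _ D_ok [] (fun _ h => absurd h List.not_mem_nil) 20 24
    (by decide +kernel) (by decide +kernel)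

theorem row_eleven (B : Base) : FprRow 12 1 11 G :=
  row_comb (ctx B) (p := 11) (by norm_num) (by norm_num) [2, 3, 5, 7, 11, 13] J_ok _ D_ok [] (fun _ h => absurd h List.not_mem_nil) 20 120
    (by decide +kernel) (by exact Cfsg.Agent.H147.Fpr.chkC_fast (by decide +kernel))

theorem row_thirteen (B : Base) : FprRow 14 1 13 G :=
  row_comb (ctx B) (p := 13) (by norm_num) (by norm_num) [2, 3, 5, 7, 11, 13] J_ok _ D_ok [] (fun _ h => absurd h List.not_mem_nil) 20 84
    (by decide +kernel) (by exact Cfsg.Agent.H147.Fpr.chkC_fast (by decide +kernel))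

/-! ### order 7 -/

theorem not49 : ¬ 7 ^ 2 ∣ n_suz := by decide +kernel
theorem dvd7 : 7 ∣ n_suz := by decide +kernel

theorem hN7 (R : Subgroup G) (hR : Nat.card R = 7) :
    Nat.card (centralizer (R : Set G)) ∣ 84 ∧ Nat.card (normalizer (R : Set G)) = 504 := by
  obtain ⟨h1, h2⟩ := data7 hR
  exact ⟨by rw [h1], h2⟩

theorem allow7 (B : Base) {M : Subgroup G} (h : M.index ∈ [66, 143, 198, 275, 429]) :
    ∃ x : G, (∃ k : ℕ, orderOf x = 7 ^ k) ∧ (7 + 1) * Nat.card (MulAction.fixedBy (G ⧸ M) x) ≤ 1 * Nat.card (G ⧸ M) := by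
  simp only [List.mem_cons, List.not_mem_nil, or_false] at h
  rcases h with h | h | h | h | h
  · exact of_refined (ctx B) (by norm_num) not49 dvd7 hN7 h 24 (by decide +kernel) [(2, 12), (3, 6), (5, 2), (7, 1), (13, 1)]
      6793113600 (by decide +kernel) (by decide +kernel) [(3, 1), (7, 1)] (by decide +kernel) (by decide +kernel)
      (by decide +kernel)
  · exact of_refined (ctx B) (by norm_num) not49 dvd7 hN7 h 24 (by decide +kernel) [(2, 13), (3, 7), (5, 2), (7, 1)]
      3135283200 (by decide +kernel) (by decide +kernel) [(3, 1), (7, 1)] (by decide +kernel) (by decide +kernel)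
      (by decide +kernel)
  · exact of_refined (ctx B) (by norm_num) not49 dvd7 hN7 h 72 (by decide +kernel) [(2, 12), (3, 5), (5, 2), (7, 1), (13, 1)]
      2264371200 (by decide +kernel) (by decide +kernel) [(7, 1)] (by decide +kernel) (by decide +kernel)
      (by decide +kernel)
  · exact of_refined (ctx B) (by norm_num) not49 dvd7 hN7 h 72 (by decide +kernel) [(2, 13), (3, 7), (7, 1), (13, 1)]
      1630347264 (by decide +kernel) (by decide +kernel) [(7, 1)] (by decide +kernel) (by decide +kernel)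
      (by decide +kernel)
  · exact of_refined (ctx B) (by norm_num) not49 dvd7 hN7 h 72 (by decide +kernel) [(2, 13), (3, 6), (5, 2), (7, 1)]
      1045094400 (by decide +kernel) (by decide +kernel) [(7, 1)] (by decide +kernel) (by decide +kernel)
      (by decide +kernel)

theorem row_seven (B : Base) : FprRow 8 1 7 G :=
  row_combA (ctx B) (p := 7) (by norm_num) (by norm_num) [2, 3, 5, 7, 11, 13] J_ok _ D_ok [] (fun _ h => absurd h List.not_mem_nil) 20 576
    (by decide +kernel) [66, 143, 198, 275, 429] (fun _ _ h => allow7 B h) (by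
      delta chkC
      generalize hb : Cfsg.Agent.H940.Eng.bad _ _ _ _ _ _ = b
      revert b
      exact Cfsg.Agent.H940.EngF.bad_gen (by decide +kernel))

theorem row (B : Base) {p : ℕ} (hp : p.Prime) (hd : p ∣ Nat.card G) : FprRow (p + 1) 1 p G := by
  rw [card] at hd
  have h := H715.Fpr.valid_mem v_suz hp hd
  simp only [l_suz, List.map_cons, List.map_nil, List.mem_cons, List.not_mem_nil, or_false] at h
  rcases h with rfl | rfl | rfl | rfl | rfl | rfl
  · exact row_two B
  · exact row_three B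
  · exact row_five B
  · exact row_seven B
  · exact row_eleven B
  · exact row_thirteen B

universe u

/-- **All rows of `Suz`.** -/
theorem rowIso (B : Base) {S : Type u} [Group S] (h : Spor.IsoSuz S) {p : ℕ} (hp : p.Prime) (hd : p ∣ Nat.card S) :
    FprRow (p + 1) 1 p S := by
  have := fin
  obtain ⟨e⟩ := h
  exact FprRow.of_mulEquiv hp e.symm (row B hp (by rwa [Nat.card_congr e.symm.toEquiv]))

end Cfsg.Agent.H147.Fpr.Suz
end

private theorem dce_099cf1a0aeb2 : _root_.True := by
  try have : _root_.True := by simp only [_root_.Cfsg.Agent.H940.Eng.D.l_suz.eq_1]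
  exact _root_.True.intro
end
end
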