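import Cfsg.Agent.H147.Fpr.Gen
import Cfsg.Agent.H316.RedPerf_m3
import Cfsg.Agent.H715.Fpr.Row4_m3
import Cfsg.Agent.H970.Sep.RowCo3
import Cfsg.Agent.CoThreeStd.BaseSix
import Cfsg.Agent.Prune
set_option linter.all false
prune_inst 0x7f00000000000000000000000000000000000000000000000000000000000000000000000000000000000000000000000000000000000000000000000000000000000000000000000000000000000000003fffffffffffffffffffffffffffbeffbdffffffff
open scoped Cfsg.Agent.FastGrp

/-!
# Fixed point ratios for `Co₃` (helper147)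

`u`, `v` : a pair of orders 2, 3 with product of order 7 generating `Co₃`: a proper subgroup of order divisible by 23 and 7
has the order of `M₂₃` or `M₂₄`, which is excluded by the normalizer of its Sylow 7-subgroup.
-/

set_option autoImplicit false
set_option maxRecDepth 100000

namespace Cfsg.Agent.H147.Fpr.Co3

open Subgroup Cfsg Cfsg.Agent.H409 Cfsg.Agent.H940 Cfsg.Agent.H940.Eng Cfsg.Agent.H940.Eng.D
open Cfsg.Agent.H970.Sep.RowCo3 Cfsg.Agent.H444.Fpr

theorem idx_chk : Eng.chk l_co3 n_co3 23 7 [(2, 10), (3, 7), (5, 3), (11, 1)] [2025, 48600] [] 20 loc o_co3 = true :=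
  EngF.chk_fast (by decide +kernel)

/-- a proper subgroup of order divisible by 23 and 7 -/
theorem index_of (B : Base) {K : Subgroup G} (h23 : 23 ∣ Nat.card K) (h7 : 7 ∣ Nat.card K) :
    K = ⊤ ∨ K.index ∈ [2025, 48600] :=
  (ctx B).over [(2, 10), (3, 7), (5, 3), (11, 1)] [2025, 48600] [] 20 idx_chk h23 h7
    (fun p hp => absurd hp List.not_mem_nil)

/-- generation -/
theorem top_of (B : Base) {K : Subgroup G} (h23 : 23 ∣ Nat.card K) {a b t x : G} (ha : a ∈ K) (hb : b ∈ K) (ht : t ∈ K)
    (hx : x ∈ K) (oa : orderOf a = 14) (ob : orderOf b = 21) (ox : orderOf x = 7) (htx : t * x * t⁻¹ = x⁻¹) : K = ⊤ := by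
  have := fin
  have hf7 : Fact (Nat.Prime 7) := ⟨by norm_num⟩
  have h7 : 7 ∣ Nat.card K := by
    rw [← ox, ← Subgroup.orderOf_mk x hx]
    exact orderOf_dvd_natCard _
  rcases index_of B h23 h7 with h | h
  · exact h
  exfalso
  have hcK : Nat.card K * K.index = n_co3 := by rw [Subgroup.card_mul_index, card]
  have hsq : ¬ 7 * 7 ∣ Nat.card K := by
    intro h1
    have h2 : 7 * 7 ∣ n_co3 := hcK ▸ h1.mul_right _
    revert h2
    decide +kernel
  -- the centralizer in `K`
  have key : ∀ (y : K) (m : ℕ) (c : K), orderOf y = 7 → c * y = y * c → orderOf c = m →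
      m ∣ Nat.card (centralizer ({y} : Set K)) := by
    intro y m c hy hc hm
    have h1 : c ∈ centralizer ({y} : Set K) := mem_centralizer_singleton_iff.2 hc
    rw [← hm, ← Subgroup.orderOf_mk c h1]
    exact orderOf_dvd_natCard _
  have ha' : orderOf (⟨a, ha⟩ : K) = 14 := by rw [Subgroup.orderOf_mk, oa]
  have hb' : orderOf (⟨b, hb⟩ : K) = 21 := by rw [Subgroup.orderOf_mk, ob]
  have hx' : orderOf (⟨x, hx⟩ : K) = 7 := by rw [Subgroup.orderOf_mk, ox]
  have hy2 : orderOf ((⟨a, ha⟩ : K) ^ 2) = 7 := by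
    rw [orderOf_pow_of_dvd (by norm_num) (by rw [ha']; norm_num), ha']
  have hy3 : orderOf ((⟨b, hb⟩ : K) ^ 3) = 7 := by
    rw [orderOf_pow_of_dvd (by norm_num) (by rw [hb']; norm_num), hb']
  have h14 : 14 ∣ Nat.card (centralizer ({(⟨x, hx⟩ : K)} : Set K)) := by
    rw [H547.SelfCent.card_cent_eq (by norm_num) hsq hx' hy2]
    exact key _ 14 ⟨a, ha⟩ hy2 ((Commute.refl _).pow_right 2).eq ha'
  have h21 : 21 ∣ Nat.card (centralizer ({(⟨x, hx⟩ : K)} : Set K)) := by
    rw [H547.SelfCent.card_cent_eq (by norm_num) hsq hx' hy3]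
    exact key _ 21 ⟨b, hb⟩ hy3 ((Commute.refl _).pow_right 3).eq hb'
  have h42 : Nat.card (centralizer ({(⟨x, hx⟩ : K)} : Set K)) ∣ 42 := by
    have h1 : Nat.card (centralizer ({x} : Set G)) = 42 := by
      rw [← H715.Fpr.cent_zpowers']
      exact (Cfsg.Agent.H970.Sep.Co3.cn7 iso (zpowers x) (by rw [Nat.card_zpowers, ox])).1
    rw [← h1]
    have h2 : (centralizer ({(⟨x, hx⟩ : K)} : Set K)).map K.subtype ≤ centralizer ({x} : Set G) := by
      rintro _ ⟨c, hc, rfl⟩
      exact mem_centralizer_singleton_iff.2 (congrArg Subtype.val (mem_centralizer_singleton_iff.1 hc))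
    have h3 := card_dvd_of_le h2
    rwa [Nat.card_congr ((centralizer ({(⟨x, hx⟩ : K)} : Set K)).equivMapOfInjective K.subtype K.subtype_injective).toEquiv.symm]
      at h3
  have hc : Nat.card (centralizer ({(⟨x, hx⟩ : K)} : Set K)) = 42 := by
    refine Nat.dvd_antisymm h42 ?_
    exact Nat.lcm_dvd h14 h21
  obtain ⟨e, he1, he2, he3, -, he5⟩ := H547.SelfCent.arith (by norm_num) hx' hsq
  have he : 2 ∣ e := by
    have := he5 ⟨t, ht⟩ 6 2 0 (by norm_num) (by
      apply Subtype.ext
      show t * x * t⁻¹ = x ^ 6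
      have h7 : x ^ 7 = 1 := by rw [← ox]; exact pow_orderOf_eq_one x
      rw [htx, inv_eq_iff_mul_eq_one, ← pow_succ']
      exact h7) (by norm_num) (by norm_num)
    simpa using this
  have he6 : e ≤ 6 := Nat.le_of_dvd (by norm_num) he1
  rw [hc] at he2 he3
  simp only [List.mem_cons, List.not_mem_nil, or_false] at h
  have hN : Nat.card K = 244823040 ∨ Nat.card K = 10200960 := by
    have hn : n_co3 = 495766656000 := rfl
    rcases h with h | h
    · left
      rw [h, hn] at hcK
      omega
    · right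
      rw [h, hn] at hcK
      omega
  rcases hN with hN | hN <;> rw [hN] at he2 he3 <;> interval_cases e <;> omega

/-! ### words -/

open Cfsg.Agent.SporadicStructure.PermChain Cfsg.Agent.LeechPack.X552 Cfsg.Agent.CoThreeStd.Gens
  Cfsg.Agent.CoThreeStd.Model Cfsg.Agent.McLType

/-- the element of the model given by a word -/
noncomputable def val (w : List (Fin 8)) : G3 := (w.map m).prod

/-- the isomorphism -/
noncomputable def eqv : G3 ≃* G := isoCo3_G3.some

/-- the element of `Co₃` given by a word -/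
noncomputable def wd (w : List (Fin 8)) : G := eqv (val w)

theorem val_append (v w : List (Fin 8)) : val (v ++ w) = val v * val w := by
  simp [val]

theorem wd_append (v w : List (Fin 8)) : wd (v ++ w) = wd v * wd w := by
  rw [wd, val_append, map_mul]; rfl

theorem wd_nil : wd [] = 1 := map_one eqv

/-- the word evaluated at a point -/
def ev (w : List (Fin 8)) (i : ℕ) : ℕ := evalWord 10 tabs (w.map (fun k => (k : ℕ))) i

theorem ev_eq (w : List (Fin 8)) (i : Fin 552) : (ψ (val w) i : ℕ) = ev w i := by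
  rw [val, map_list_prod, List.map_map]
  have h2 : (ψ ∘ m) = σ := funext ψ_m
  rw [h2, evalWord_σ]
  rfl

/-- the test -/
def chkW (v w : List (Fin 8)) : Bool :=
  [120, 462, 5, 183, 387, 0].all fun i => Nat.beq (ev v i) (ev w i)

theorem eq_of_chkW {v w : List (Fin 8)} (h : chkW v w = true) : wd v = wd w := by
  unfold chkW at h
  simp only [List.all_cons, List.all_nil, Bool.and_true, Bool.and_eq_true, H444.Fpr.beqT] at h
  obtain ⟨h1, h2, h3, h4, h5, h6⟩ := h
  rw [wd, wd]
  congr 1
  apply Cfsg.Agent.CoThreeStd.BaseSix.eq_of_base <;> apply Fin.ext <;> rw [ev_eq, ev_eq] <;> assumption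

theorem ne_one_of_ev {w : List (Fin 8)} (h : Nat.beq (ev w 0) 0 = false) : wd w ≠ 1 := by
  intro h1
  have h2 : val w = 1 := by
    apply eqv.injective
    rw [map_one]
    exact h1
  have h3 := ev_eq w 0
  rw [h2, map_one] at h3
  have h4 : (0 : ℕ) = ev w 0 := h3
  rw [← h4] at h
  exact absurd h (by decide)

/-- repeated word -/
def pw (w : List (Fin 8)) : ℕ → List (Fin 8)
  | 0 => []
  | n + 1 => pw w n ++ w

theorem wd_pw (w : List (Fin 8)) (n : ℕ) : wd (pw w n) = wd w ^ n := by
  induction n with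
  | zero => rw [pw, wd_nil, pow_zero]
  | succ n ih => rw [pw, wd_append, ih, pow_succ]

/-- a list of tables applied to a point -/
private noncomputable def evF (l : List ℕ) (i : ℕ) : ℕ :=
  List.rec (motive := fun _ => ℕ) i (fun T _ r => Nat.mod (Nat.shiftRight T (Nat.mul 10 r)) 1024) l

private theorem evF_eq (w v : List (Fin 8)) (i : ℕ) :
    evF (w.map fun k : Fin 8 => tabs.getD k 0) (ev v i) = ev (w ++ v) i := by
  induction w with
  | nil => rfl
  | cons k w ih =>
    show look 10 (tabs.getD k 0) (evF (w.map fun k : Fin 8 => tabs.getD k 0) (ev v i)) =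
      look 10 (tabs.getD k 0) (ev (w ++ v) i)
    rw [ih]

/-- iteration -/
private noncomputable def itF (l : List ℕ) (n i : ℕ) : ℕ :=
  Nat.rec (motive := fun _ => ℕ) i (fun _ r => Nat.rec (motive := fun _ => ℕ) (evF l 0) (fun m _ => evF l (Nat.succ m)) r) n

/-- repeated word -/
private def pw' (w : List (Fin 8)) : ℕ → List (Fin 8)
  | 0 => []
  | n + 1 => w ++ pw' w n

private theorem itF_eq (w : List (Fin 8)) (i : ℕ) : ∀ n, itF (w.map fun k : Fin 8 => tabs.getD k 0) n i = ev (pw' w n) i
  | 0 => rfl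
  | n + 1 => by
    have h : ∀ (l : List ℕ) (r : ℕ),
        Nat.rec (motive := fun _ => ℕ) (evF l 0) (fun m _ => evF l (Nat.succ m)) r = evF l r := fun l r => by
      cases r <;> rfl
    refine (h _ (itF (w.map fun k : Fin 8 => tabs.getD k 0) n i)).trans ?_
    rw [itF_eq w i n, evF_eq]
    rfl

private theorem wd_pw' (w : List (Fin 8)) : ∀ n, wd (pw' w n) = wd w ^ n
  | 0 => by rw [pow_zero]; exact wd_nil
  | n + 1 => by rw [pow_succ', ← wd_pw' w n, ← wd_append]; rfl

private theorem pow_eqF {w : List (Fin 8)} {n : ℕ} (h : ([120, 462, 5, 183, 387, 0].all fun i =>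
    Nat.beq (itF (w.map fun k : Fin 8 => tabs.getD k 0) n i) i) = true) : wd w ^ n = 1 := by
  simp only [itF_eq] at h
  rw [← wd_pw', eq_of_chkW (v := pw' w n) (w := []) h, wd_nil]

def U : List (Fin 8) := [6, 7, 4, 6, 7, 7, 3, 6, 3, 7, 6, 4, 7, 7, 6]
def V : List (Fin 8) := [4, 3]
/-- `u v` -/
def A : List (Fin 8) := U ++ V
/-- `u v⁻¹` -/
def C : List (Fin 8) := U ++ (V ++ V)

theorem oU : orderOf (wd U) = 2 := by
  have : Fact (Nat.Prime 2) := ⟨by norm_num⟩
  exact orderOf_eq_prime (pow_eqF (by decide +kernel)) (ne_one_of_ev (by decide +kernel))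
theorem oV : orderOf (wd V) = 3 := by
  have : Fact (Nat.Prime 3) := ⟨by norm_num⟩
  exact orderOf_eq_prime (pow_eqF (by decide +kernel)) (ne_one_of_ev (by decide +kernel))
theorem oUV : orderOf (wd U * wd V) = 7 := by
  have : Fact (Nat.Prime 7) := ⟨by norm_num⟩
  rw [← wd_append]
  exact orderOf_eq_prime (pow_eqF (by decide +kernel)) (ne_one_of_ev (by decide +kernel))

theorem order_two_primes {x : G} {p q : ℕ} (hp : p.Prime) (hq : q.Prime) (hpq : p ≠ q) (h1 : x ^ (p * q) = 1) (h2 : x ^ p ≠ 1)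
    (h3 : x ^ q ≠ 1) : orderOf x = p * q := by
  have h4 : orderOf x ∣ p * q := orderOf_dvd_of_pow_eq_one h1
  have h5 : ¬ orderOf x ∣ p := fun h => h2 (orderOf_dvd_iff_pow_eq_one.1 h)
  have h6 : ¬ orderOf x ∣ q := fun h => h3 (orderOf_dvd_iff_pow_eq_one.1 h)
  apply Nat.dvd_antisymm h4
  have h7 : p ∣ orderOf x := by
    by_contra hcon
    exact h6 ((Nat.Coprime.dvd_of_dvd_mul_left ((Nat.Prime.coprime_iff_not_dvd hp).2 hcon).symm h4))
  have h8 : q ∣ orderOf x := by
    by_contra hcon
    exact h5 ((Nat.Coprime.dvd_of_dvd_mul_right ((Nat.Prime.coprime_iff_not_dvd hq).2 hcon).symm h4))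
  exact Nat.Coprime.mul_dvd_of_dvd_of_dvd ((Nat.coprime_primes hp hq).2 hpq) h7 h8

private theorem inv_aux {H : Type*} [Group H] {u w : H} (h3 : u * u = 1) :
    u * (u * (w * (u * w⁻¹))) * u⁻¹ = (u * (w * (u * w⁻¹)))⁻¹ := by
  have h4 : u⁻¹ = u := inv_eq_of_mul_eq_one_right h3
  rw [mul_inv_rev, mul_inv_rev, mul_inv_rev, inv_inv, h4, ← mul_assoc u u, h3, one_mul, mul_assoc w u]

theorem genUV (B : Base) : closure ({wd U, wd V} : Set G) = ⊤ := by
  have := fin
  set K := closure ({wd U, wd V} : Set G) with hK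
  have hU : wd U ∈ K := subset_closure (Set.mem_insert _ _)
  have hV : wd V ∈ K := subset_closure (Set.mem_insert_of_mem _ rfl)
  have hA : wd A ∈ K := by
    rw [A, wd_append]; exact mul_mem hU hV
  have hC : wd C ∈ K := by
    rw [C, wd_append, wd_append]; exact mul_mem hU (mul_mem hV hV)
  refine top_of B (a := wd (A ++ C)) (b := wd (C ++ (A ++ (C ++ (A ++ (C ++ (C ++ (A ++ (A ++ (A ++ (C ++ A)))))))))))
    (t := wd U) (x := wd (U ++ ((A ++ C) ++ (U ++ pw (A ++ C) 13)))) ?_ ?_ ?_ hU ?_ ?_ ?_ ?_ ?_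
  · refine dvd_card_of_mem (w := wd (A ++ (C ++ (A ++ (C ++ (C ++ (A ++ (C ++ (A ++ C))))))))) (m := 1) ?_ (by norm_num) ?_ ?_
    · simp only [wd_append]
      exact mul_mem hA (mul_mem hC (mul_mem hA (mul_mem hC (mul_mem hC (mul_mem hA (mul_mem hC (mul_mem hA hC)))))))
    · exact pow_eqF (by decide +kernel)
    · rw [pow_one]
      exact ne_one_of_ev (by decide +kernel)
  · rw [wd_append]
    exact mul_mem hA hC
  · simp only [wd_append]
    exact mul_mem hC (mul_mem hA (mul_mem hC (mul_mem hA (mul_mem hC (mul_mem hC (mul_mem hA (mul_mem hA (mul_mem hA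
      (mul_mem hC hA)))))))))
  · simp only [wd_append, wd_pw]
    exact mul_mem hU (mul_mem (mul_mem hA hC) (mul_mem hU (pow_mem (mul_mem hA hC) 13)))
  · exact order_two_primes (p := 2) (q := 7) (by norm_num) (by norm_num) (by norm_num) (pow_eqF (by decide +kernel))
      (by rw [← wd_pw]; exact ne_one_of_ev (by decide +kernel)) (by rw [← wd_pw]; exact ne_one_of_ev (by decide +kernel))
  · exact order_two_primes (p := 3) (q := 7) (by norm_num) (by norm_num) (by norm_num) (pow_eqF (by decide +kernel))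
      (by rw [← wd_pw]; exact ne_one_of_ev (by decide +kernel)) (by rw [← wd_pw]; exact ne_one_of_ev (by decide +kernel))
  · have : Fact (Nat.Prime 7) := ⟨by norm_num⟩
    exact orderOf_eq_prime (pow_eqF (by decide +kernel)) (ne_one_of_ev (by decide +kernel))
  · -- `u` inverts `u * w u w⁻¹`
    have h1 : wd (A ++ C) ^ 14 = 1 := pow_eqF (by decide +kernel)
    have h2 : wd (pw (A ++ C) 13) = (wd (A ++ C))⁻¹ := by
      rw [wd_pw, eq_inv_iff_mul_eq_one, ← pow_succ]
      exact h1
    have h3 : wd U * wd U = 1 := by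
      have := pow_orderOf_eq_one (wd U)
      rwa [oU, pow_two] at this
    rw [wd_append, wd_append (A ++ C), wd_append U, h2]
    exact inv_aux h3

/-! ### the rows -/

theorem index_ge {K : Subgroup G} (hK : K ≠ ⊤) : 23 ≤ K.index := by
  have := fin
  have := simple
  exact H394.SqBasic.le_index_of_prime_dvd hK (by norm_num) (by rw [card]; decide +kernel)

theorem row_two_three (B : Base) : FprRow 3 1 2 G ∧ FprRow 4 1 3 G := by
  have := fin
  exact row_23t oU oV oUV (genUV B) fun K hK => by
    have := index_ge hK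
    omega

theorem row_seven (B : Base) : FprRow 8 1 7 G := by
  have := fin
  exact seven_237 oU oV oUV (genUV B) fun K hK => by
    have := index_ge hK
    omega

theorem exists_order {r : ℕ} (hr : r.Prime) (hd : r ∣ n_co3) : ∃ z : G, orderOf z = r := by
  have := fin
  have : Fact r.Prime := ⟨hr⟩
  exact exists_prime_orderOf_dvd_card' r (by rw [card]; exact hd)

theorem known23 : Known G 23 1 11 := by
  have := fin
  obtain ⟨z, hz⟩ := exists_order (r := 23) (by norm_num) (by decide +kernel)
  obtain ⟨x, hx, h⟩ := known_of_dvd (r := 23) (C := 1) (by norm_num) card (by decide +kernel) (by decide +kernel) hz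
    (by
      rw [← H715.Fpr.cent_zpowers', Cfsg.Agent.H555.TwoSp.c23 iso (zpowers z) (by rw [Nat.card_zpowers, hz])])
    (by norm_num) [(1, 11)] (by decide +kernel) (by decide)
  rw [List.mem_singleton.1 hx] at h
  exact h

theorem known11 : Known G 11 2 5 := by
  have := fin
  obtain ⟨z, hz⟩ := exists_order (r := 11) (by norm_num) (by decide +kernel)
  have h1 : Nat.card (centralizer ({z} : Set G)) = 11 * 2 := by
    rw [← H715.Fpr.cent_zpowers', Cfsg.Agent.H555.TwoSp.c11 iso (zpowers z) (by rw [Nat.card_zpowers, hz])]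
  exact Known.of_cent (by norm_num) card (by decide +kernel) (by decide +kernel) hz h1 (by decide +kernel)

theorem known7 : Known G 7 6 6 := by
  have := fin
  obtain ⟨z, hz⟩ := exists_order (r := 7) (by norm_num) (by decide +kernel)
  have h1 : Nat.card (centralizer ({z} : Set G)) = 7 * 6 := by
    rw [← H715.Fpr.cent_zpowers', (Cfsg.Agent.H970.Sep.Co3.cn7 iso (zpowers z) (by rw [Nat.card_zpowers, hz])).1]
  exact Known.of_cent (by norm_num) card (by decide +kernel) (by decide +kernel) hz h1 (by decide +kernel)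

theorem J_ok : ∀ q ∈ [2, 3, 5, 7, 11, 23], q.Prime ∧ q ∣ n_co3 := by
  intro q hq
  simp only [List.mem_cons, List.not_mem_nil, or_false] at hq
  rcases hq with rfl | rfl | rfl | rfl | rfl | rfl
  all_goals exact ⟨by norm_num, by decide +kernel⟩

theorem D_ok : ∀ d ∈ [(23, 1, 11), (11, 2, 5), (7, 6, 6)], Known G d.1 d.2.1 d.2.2 := by
  intro d hd
  simp only [List.mem_cons, List.not_mem_nil, or_false] at hd
  rcases hd with rfl | rfl | rfl
  · exact known23
  · exact known11
  · exact known7

theorem row_five (B : Base) : FprRow 6 1 5 G :=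
  row_comb (ctx B) (p := 5) (by norm_num) (by norm_num) [2, 3, 5, 7, 11, 23] J_ok _ D_ok [] (fun _ h => absurd h List.not_mem_nil) 20 24
    (by decide +kernel) (by decide +kernel)

theorem row_eleven (B : Base) : FprRow 12 1 11 G :=
  row_comb (ctx B) (p := 11) (by norm_num) (by norm_num) [2, 3, 5, 7, 11, 23] J_ok _ D_ok [] (fun _ h => absurd h List.not_mem_nil) 20 24
    (by decide +kernel) (by decide +kernel)

theorem row_23 (B : Base) : FprRow 24 1 23 G :=
  row_comb (ctx B) (p := 23) (by norm_num) (by norm_num) [2, 3, 5, 7, 11, 23] J_ok _ D_ok [] (fun _ h => absurd h List.not_mem_nil) 20 264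
    (by decide +kernel) (by decide +kernel)

theorem row (B : Base) {p : ℕ} (hp : p.Prime) (hd : p ∣ Nat.card G) : FprRow (p + 1) 1 p G := by
  rw [card] at hd
  have h := H715.Fpr.valid_mem v_co3 hp hd
  simp only [l_co3, List.map_cons, List.map_nil, List.mem_cons, List.not_mem_nil, or_false] at h
  rcases h with rfl | rfl | rfl | rfl | rfl | rfl
  · exact (row_two_three B).1
  · exact (row_two_three B).2
  · exact row_five B
  · exact row_seven B
  · exact row_eleven B
  · exact row_23 B

universe u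

/-- **All rows of `Co₃`.** -/
theorem rowIso (B : Base) {S : Type u} [Group S] (h : Spor.IsoCo3 S) {p : ℕ} (hp : p.Prime) (hd : p ∣ Nat.card S) :
    FprRow (p + 1) 1 p S := by
  have := fin
  obtain ⟨e⟩ := h
  exact FprRow.of_mulEquiv hp e.symm (row B hp (by rwa [Nat.card_congr e.symm.toEquiv]))

end Cfsg.Agent.H147.Fpr.Co3

private theorem dce_70d5ec07a006 : _root_.True := by
  try have : _root_.True := by simp only [_root_.Cfsg.Agent.H147.Fpr.Co3.C.eq_1]
  try have : _root_.True := by simp only [_root_.Cfsg.Agent.H940.Eng.D.l_co3.eq_1]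
  try have : _root_.True := by simp only [_root_.Cfsg.Agent.H147.Fpr.Co3.pw.eq_1]
  try have : _root_.True := by simp only [_root_.Cfsg.Agent.H147.Fpr.Co3.val.eq_1]
  try have : _root_.True := by simp only [_root_.Cfsg.Agent.H147.Fpr.Co3.A.eq_1]
  try have : _root_.True := by simp only [_root_.Cfsg.Agent.H147.Fpr.Co3.pw.eq_2]
  try have : _root_.True := by simp only [_root_.Cfsg.Agent.H147.Fpr.Co3.pw.eq_def]
  try have : _root_.True := by simp only [_root_.Cfsg.Agent.H147.Fpr.Co3.wd.eq_1]
  exact _root_.True.intro
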