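import Cfsg.Agent.CoOneType.CoEval
import Cfsg.Agent.CoOneType.CoFast
import Cfsg.Agent.H147.Fpr.CoOneNine
import Cfsg.Agent.H316.RedPerf_m3
import Cfsg.Agent.H147.Fpr.Gen
import Cfsg.Agent.H800.ME.CoFacts
import Cfsg.Agent.FastGrp
import Cfsg.Agent.Prune
set_option linter.all false
open scoped Cfsg.Agent.FastGrp

/-- decoders of the packed data (elaboration time only) -/
private noncomputable def pk61d (b S i : Nat) : Nat := Nat.mod (Nat.shiftRight S (Nat.mul b i)) (Nat.shiftLeft (nat_lit 1) b)
private noncomputable def pk61c {α : Type} (t : Nat) (a : α) (f : Nat → α) : α := Nat.rec a (fun k _ => f k) t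
private noncomputable def pk61f {α : Type} (t : Nat) (f : Nat → α) : α := Nat.rec (f Nat.zero) (fun k _ => f (Nat.succ k)) t
private noncomputable def pk61z (t : Nat) : Int := pk61f t fun t =>
  pk61c (Nat.mod t (nat_lit 2)) (Int.ofNat (Nat.div t (nat_lit 2))) fun _ => Int.negSucc (Nat.div t (nat_lit 2))
private noncomputable def pk61l {α : Type} (f : Nat → α) (s e : Nat) (tl : List α) : List α :=
  pk61f e fun e => Nat.rec tl (fun k ih => List.cons (pk61f (Nat.sub e (Nat.succ k)) f) ih) (Nat.sub e s)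
private noncomputable def pk61o {α : Type} (O : (n : Nat) → OfNat α n → α) (I : (n : Nat) → OfNat α n) (t : Nat) : α :=
  pk61c t (O (nat_lit 0) (I (nat_lit 0))) fun k => O (Nat.succ k) (I (Nat.succ k))
private noncomputable def pk61y (O : (n : Nat) → OfNat Int n → Int) (I : (n : Nat) → OfNat Int n) (G : Int → Int) (t : Nat) : Int := pk61f t fun t =>
  pk61c (Nat.mod t (nat_lit 2)) (pk61o O I (Nat.div t (nat_lit 2))) fun _ => G (pk61o O I (Nat.succ (Nat.div t (nat_lit 2))))


namespace Cfsg.Agent.Co0Q_H147_Fpr_CoOne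

open Cfsg Cfsg.Agent.SporadicA Cfsg.Agent.SporadicStructure.Co0Matrix Cfsg.Agent.CoOneType.CoFast Finset

/-- dot product with two accumulators -/
private noncomputable def dk (r : List ℤ) : List ℤ → ℕ → ℕ → ℤ :=
  List.rec (fun _ P N => Int.subNatNat P N) (fun a _ ih l P N => List.rec (Int.subNatNat P N) (fun b t _ =>
    Int.rec (fun x => Int.rec (fun y => ih t (Nat.add P (Nat.mul x y)) N) (fun y => ih t P (Nat.add N (Nat.mul x (Nat.succ y)))) b)
      (fun x => Int.rec (fun y => ih t P (Nat.add N (Nat.mul (Nat.succ x) y)))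
        (fun y => ih t (Nat.add P (Nat.mul (Nat.succ x) (Nat.succ y))) N) b) a) l) r

private theorem dk_eq : ∀ (r l : List ℤ) (P N : ℕ), dk r l P N = P - N + dotL r l
  | [], l, P, N => by rw [dotL_nil_left, add_zero]; exact Int.subNatNat_eq_coe
  | a :: s, [], P, N => by rw [dotL_nil_right, add_zero]; exact Int.subNatNat_eq_coe
  | .ofNat x :: s, .ofNat y :: t, P, N => (dk_eq s t (P + x * y) N).trans (by
      rw [dotL_cons, Int.ofNat_eq_natCast, Int.ofNat_eq_natCast]; push_cast; ring)
  | .ofNat x :: s, .negSucc y :: t, P, N => (dk_eq s t P (N + x * (y + 1))).trans (by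
      rw [dotL_cons, Int.ofNat_eq_natCast, Int.negSucc_eq]; push_cast; ring)
  | .negSucc x :: s, .ofNat y :: t, P, N => (dk_eq s t P (N + (x + 1) * y)).trans (by
      rw [dotL_cons, Int.ofNat_eq_natCast, Int.negSucc_eq]; push_cast; ring)
  | .negSucc x :: s, .negSucc y :: t, P, N => (dk_eq s t (P + (x + 1) * (y + 1)) N).trans (by
      rw [dotL_cons, Int.negSucc_eq, Int.negSucc_eq]; push_cast; ring)

private theorem dk0 (r l : List ℤ) : dk r l 0 0 = dotL r l := by rw [dk_eq]; simp

/-- entry -/
private def en (A : List (List ℤ)) (i j : ℕ) : ℤ := (A.getD i []).getD j 0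

/-- shape and size of the entries -/
private def sh (A : List (List ℤ)) : Bool := A.all fun r => Nat.beq r.length 24 && r.all fun a => Nat.ble a.natAbs 1000

private theorem sh_len {A : List (List ℤ)} (h : sh A = true) {r : List ℤ} (hr : r ∈ A) : r.length = 24 :=
  Nat.eq_of_beq_eq_true (Bool.and_eq_true_iff.1 (List.all_eq_true.1 h r hr)).1

private theorem sh_le {A : List (List ℤ)} (h : sh A = true) (i : ℕ) : (A.getD i []).length ≤ 24 := by
  by_cases hi : i < A.length
  · exact (sh_len h (getD_mem_of_lt A [] hi)).le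
  · rw [List.getD_eq_default _ _ (not_lt.1 hi)]; exact Nat.zero_le _

private theorem sh_abs {A : List (List ℤ)} (h : sh A = true) (i j : ℕ) : |en A i j| ≤ 1000 := by
  unfold en
  by_cases hi : i < A.length
  · by_cases hj : j < (A.getD i []).length
    · have := Nat.le_of_ble_eq_true (List.all_eq_true.1 (Bool.and_eq_true_iff.1 (List.all_eq_true.1 h _ (getD_mem_of_lt A [] hi))).2 _
        (getD_mem_of_lt _ 0 hj))
      rw [Int.abs_eq_natAbs]; exact_mod_cast this
    · rw [List.getD_eq_default _ _ (not_lt.1 hj)]; decide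
  · rw [List.getD_eq_default _ _ (not_lt.1 hi), List.getD_nil]; decide

private theorem sum_lt (B : ℕ) (c : ℕ → ℕ) (h : ∀ k, c k < B) : ∀ n, ∑ k ∈ range n, c k * B ^ k < B ^ n
  | 0 => Nat.one_pos
  | n + 1 => by
    rw [sum_range_succ, pow_succ']
    exact lt_of_lt_of_le (Nat.add_lt_add_right (sum_lt B c h n) _) (by
      rw [add_comm, ← Nat.succ_mul]; exact Nat.mul_le_mul_right _ (h n))

private theorem land_dig (w m : ℕ) (hm : m < 2 ^ w) : ∀ (n : ℕ) (c : ℕ → ℕ), (∀ k, c k < 2 ^ w) →
    (∑ k ∈ range n, c k * (2 ^ w) ^ k) &&& (∑ k ∈ range n, m * (2 ^ w) ^ k) = 0 → ∀ k < n, c k &&& m = 0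
  | 0, _, _, _, k, hk => absurd hk (Nat.not_lt_zero k)
  | n + 1, c, hc, h, k, hk => by
    have e : ∀ d : ℕ → ℕ, ∑ k ∈ range (n + 1), d k * (2 ^ w) ^ k = d 0 + 2 ^ w * ∑ k ∈ range n, d (k + 1) * (2 ^ w) ^ k := fun d => by
      rw [sum_range_succ', pow_zero, mul_one, add_comm, mul_sum]
      exact congrArg _ (sum_congr rfl fun k _ => by rw [pow_succ', mul_left_comm])
    rw [e c, e fun _ => m] at h
    cases k with
    | zero =>
      have := congrArg (· % 2 ^ w) h
      simpa only [Nat.and_mod_two_pow, Nat.add_mul_mod_self_left, Nat.mod_eq_of_lt hm, Nat.mod_eq_of_lt (hc 0), Nat.zero_mod] using this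
    | succ k =>
      have := congrArg (· / 2 ^ w) h
      simp only [Nat.and_div_two_pow, Nat.add_mul_div_left _ _ (Nat.two_pow_pos w), Nat.div_eq_of_lt hm, Nat.div_eq_of_lt (hc 0),
        Nat.zero_div, Nat.zero_add] at this
      exact land_dig w m hm n (fun k => c (k + 1)) (fun k => hc _) this k (Nat.lt_of_succ_lt_succ hk)

/-- the sum of `n` powers of `2 ^ w` -/
private def jj (w n : ℕ) : ℕ := Nat.div (Nat.sub (Nat.pow 2 (Nat.mul w n)) 1) (Nat.sub (Nat.pow 2 w) 1)

private theorem jj_eq {w : ℕ} (hw : w ≠ 0) (n : ℕ) : jj w n = ∑ k ∈ range n, (2 ^ w) ^ k := by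
  rw [Nat.geomSum_eq (Nat.one_lt_two_pow hw), ← pow_mul]; rfl

/-- all digits are divisible by `2 ^ e` -/
private def tst (n e : ℕ) (N : ℤ) : Bool :=
  Nat.beq (Nat.land (N + Int.ofNat (Nat.mul (Nat.pow 2 40) (Nat.mul (jj 48 n) (jj (Nat.mul 48 n) n)))).toNat
    (Nat.mul (Nat.sub (Nat.pow 2 e) 1) (Nat.mul (jj 48 n) (jj (Nat.mul 48 n) n)))) 0

private theorem key {n e : ℕ} (hn : n ≠ 0) (he : e ≤ 40) (d : ℕ → ℕ → ℤ) (hd : ∀ a b, |d a b| < 2 ^ 40)
    (h : tst n e (∑ b ∈ range n, (∑ a ∈ range n, d a b * (2 ^ 48) ^ a) * (2 ^ (48 * n)) ^ b) = true) (a b : ℕ) (ha : a < n) (hb : b < n) :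
    2 ^ e ∣ d a b := by
  have h1 : ∀ a b, (((d a b + 2 ^ 40).toNat : ℕ) : ℤ) = d a b + 2 ^ 40 := fun a b =>
    Int.toNat_of_nonneg (by linarith only [(abs_lt.1 (hd a b)).1])
  have h2 : ∀ a b, (d a b + 2 ^ 40).toNat < 2 ^ 48 := fun a b => by
    have := (abs_lt.1 (hd a b)).2
    have := h1 a b
    omega
  have h3 : 2 ^ e - 1 < 2 ^ 48 := lt_of_le_of_lt (Nat.sub_le _ _) (Nat.pow_lt_pow_right (by decide) (by omega))
  have h4 := Nat.eq_of_beq_eq_true h
  have e1 : (∑ b ∈ range n, (∑ a ∈ range n, d a b * (2 ^ 48) ^ a) * (2 ^ (48 * n)) ^ b) +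
      Int.ofNat (Nat.mul (Nat.pow 2 40) (Nat.mul (jj 48 n) (jj (Nat.mul 48 n) n))) =
      ((∑ b ∈ range n, (∑ a ∈ range n, (d a b + 2 ^ 40).toNat * (2 ^ 48) ^ a) * (2 ^ (48 * n)) ^ b : ℕ) : ℤ) := by
    show _ + ((2 ^ 40 * (jj 48 n * jj (48 * n) n) : ℕ) : ℤ) = _
    rw [jj_eq (by decide), jj_eq (Nat.mul_ne_zero (by decide) hn)]
    simp only [Nat.cast_sum, Nat.cast_mul, Nat.cast_pow, Nat.cast_ofNat, h1, add_mul, sum_add_distrib]
    rw [← mul_sum, ← mul_sum, mul_assoc]
  have e2 : Nat.mul (Nat.sub (Nat.pow 2 e) 1) (Nat.mul (jj 48 n) (jj (Nat.mul 48 n) n)) =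
      ∑ b ∈ range n, (∑ a ∈ range n, (2 ^ e - 1) * (2 ^ 48) ^ a) * (2 ^ (48 * n)) ^ b := by
    show (2 ^ e - 1) * (jj 48 n * jj (48 * n) n) = _
    rw [jj_eq (by decide), jj_eq (Nat.mul_ne_zero (by decide) hn), ← mul_sum, ← mul_sum, mul_assoc]
  rw [e1, e2, Int.toNat_natCast] at h4
  have h5 := land_dig 48 _ h3 n _ (fun k => h2 k b) (land_dig (48 * n) _ (by rw [pow_mul]; exact sum_lt _ _ (fun _ => h3) n) n _
    (fun k => by rw [pow_mul]; exact sum_lt _ _ (fun a => h2 a k) n) h4 b hb) a ha
  rw [Nat.and_two_pow_sub_one_eq_mod] at h5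
  have h6 : ((2 ^ e : ℕ) : ℤ) ∣ d a b + 2 ^ 40 := h1 a b ▸ Int.natCast_dvd_natCast.2 (Nat.dvd_of_mod_eq_zero h5)
  rw [Nat.cast_pow, Nat.cast_ofNat] at h6
  exact (dvd_add_left (pow_dvd_pow 2 he)).1 h6

private theorem abs_sum {f : ℕ → ℤ} {c : ℤ} (h : ∀ i, |f i| ≤ c) : |∑ i ∈ range 24, f i| ≤ 24 * c :=
  (abs_sum_le_sum_abs _ _).trans ((sum_le_card_nsmul _ _ c fun i _ => h i).trans (by rw [card_range, nsmul_eq_mul]; rfl))

private theorem abs_mul' {a b c d : ℤ} (h : |a| ≤ c) (h' : |b| ≤ d) : |a * b| ≤ c * d :=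
  (abs_mul a b).trans_le (mul_le_mul h h' (abs_nonneg _) ((abs_nonneg _).trans h))

/-- matrix times vector -/
private noncomputable def mv (A : List (List ℤ)) (l : List ℤ) : List ℤ := List.rec [] (fun r _ ih => dk r l 0 0 :: ih) A

private theorem mv_len (l : List ℤ) : ∀ A : List (List ℤ), (mv A l).length = A.length
  | [] => rfl
  | _ :: A => congrArg (· + 1) (mv_len l A)

private theorem mv_get (l : List ℤ) : ∀ (A : List (List ℤ)) (i : ℕ), (mv A l).getD i 0 = dotL (A.getD i []) l
  | [], _ => rfl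
  | r :: _, 0 => dk0 r l
  | _ :: A, i + 1 => mv_get l A i

private theorem mv_sum {A : List (List ℤ)} (h : sh A = true) (l : List ℤ) (i : ℕ) :
    (mv A l).getD i 0 = ∑ j ∈ range 24, en A i j * l.getD j 0 := (mv_get l A i).trans (sum_range_getD _ l 24 (sh_le h i)).symm

/-- powers -/
private def pw (w : ℕ) : List ℤ := (List.range 24).map fun j => Int.ofNat (Nat.pow 2 (Nat.mul w j))

private theorem pw_get (w : ℕ) {j : ℕ} (hj : j ∈ range 24) : (pw w).getD j 0 = (2 ^ w) ^ j := by
  rw [pw, List.getD_eq_getElem _ _ (by rw [List.length_map, List.length_range]; exact mem_range.1 hj), List.getElem_map,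
    List.getElem_range, ← pow_mul]
  exact Nat.cast_pow 2 _

/-- the product of the transpose of `A` and `B` is `c` times the identity -/
private noncomputable def prd (A B : List (List ℤ)) (c : ℤ) : Bool :=
  tst 24 40 (dk (mv A (pw 48)) (mv B (pw 1152)) 0 0 - c * dk (pw 48) (pw 1152) 0 0)

private theorem prd_spec {A B : List (List ℤ)} {c : ℤ} (hA : sh A = true) (hB : sh B = true) (hl : A.length = 24) (hc : |c| ≤ 64)
    (h : prd A B c = true) {a b : ℕ} (ha : a < 24) (hb : b < 24) : ∑ i ∈ range 24, en A i a * en B i b = if a = b then c else 0 := by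
  have h1 : ∀ a b, |∑ i ∈ range 24, en A i a * en B i b - if a = b then c else 0| < 2 ^ 40 := fun a b =>
    lt_of_le_of_lt ((abs_sub _ _).trans (add_le_add (abs_sum fun i => abs_mul' (sh_abs hA i a) (sh_abs hB i b))
      (show _ ≤ 64 by split_ifs; exacts [hc, by decide]))) (by decide)
  refine sub_eq_zero.1 (Int.eq_zero_of_abs_lt_dvd (key (n := 24) (by decide) le_rfl _ h1 ?_ a b ha hb) (h1 a b))
  rw [← h, prd, dk0, dk0, ← sum_range_getD _ _ 24 ((mv_len _ A).trans hl).le, ← sum_range_getD (pw 48) _ 24 (by decide)]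
  congr 1
  simp only [sub_mul, sum_sub_distrib, mv_sum hA, mv_sum hB]
  (with_reducible congr 1)
  · simp only [sum_mul, mul_sum]
    rw [sum_comm]
    refine (sum_congr rfl fun a _ => sum_comm).trans (sum_comm.trans (sum_congr rfl fun i _ => sum_comm.trans
      (sum_congr rfl fun b hb => sum_congr rfl fun a ha => ?_)))
    rw [pw_get _ ha, pw_get _ hb]; ring
  · rw [mul_sum]
    refine sum_congr rfl fun b hb => ?_
    rw [sum_eq_single b (fun a _ h => by rw [if_neg h, zero_mul]) (fun h => absurd hb h), if_pos rfl, pw_get _ hb, pw_get _ hb, mul_assoc]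

/-- the rows, packed -/
private noncomputable def pk (X : ℤ) (A : List (List ℤ)) : List ℤ :=
  List.rec (List.replicate 24 0) (fun g _ s => List.zipWith (fun a b => a + X * b) g s) A

private theorem pk_spec (X : ℤ) : ∀ A : List (List ℤ), sh A = true → (pk X A).length = 24 ∧
    ∀ j < 24, (pk X A).getD j 0 = ∑ a ∈ range A.length, en A a j * X ^ a
  | [], _ => ⟨rfl, show ∀ j < 24, (List.replicate 24 (0 : ℤ)).getD j 0 = 0 by decide⟩
  | g :: A, h => by
    have hg := sh_len h List.mem_cons_self
    obtain ⟨h1, h2⟩ := pk_spec X A (Bool.and_eq_true_iff.1 h).2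
    have h3 : (List.zipWith (fun a b => a + X * b) g (pk X A)).length = 24 := by rw [List.length_zipWith, hg, h1]; rfl
    refine ⟨h3, fun j hj => ?_⟩
    show (List.zipWith (fun a b => a + X * b) g (pk X A)).getD j 0 = _
    rw [List.getD_eq_getElem _ _ (h3 ▸ hj), List.getElem_zipWith, ← List.getD_eq_getElem _ 0, ← List.getD_eq_getElem _ 0, h2 j hj,
      List.length_cons, sum_range_succ', add_comm, pow_zero, mul_one, mul_sum]
    exact congrArg₂ _ (sum_congr rfl fun a _ => by rw [pow_succ', mul_left_comm]; rfl) rfl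

private theorem sh_gens : sh gens = true ∧ gens.length = 49 := by decide +kernel

/-- the packed generators -/
private def cf (w : ℕ) : List ℤ :=
  ((List.range 23).map fun j => Int.ofNat (Nat.add (Nat.add (Nat.pow 2 (Nat.add (Nat.mul w j) 2)) (Nat.shiftLeft (Nat.mod (Nat.shiftLeft
    ([0, 5, 7, 10, 11, 14, 15, 17, 19, 20, 21, 22].foldr (fun t s => Nat.add (Nat.pow 2 (Nat.mul w t)) s) 0) (Nat.mul w j))
    (Nat.sub (Nat.pow 2 (Nat.mul w 23)) 1)) (Nat.succ (Nat.mul w 23))))
    (Nat.add (Nat.pow 2 (Nat.succ (Nat.mul w 47))) (Nat.pow 2 (Nat.mul w 48))))) ++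
  [Int.subNatNat (Nat.add (Nat.pow 2 (Nat.add (Nat.mul w 46) 3)) (Nat.pow 2 (Nat.succ (Nat.mul w 47))))
    (Nat.add (Nat.mul 4 (jj w 23)) (Nat.mul 3 (Nat.pow 2 (Nat.mul w 48))))]

private theorem cf_eq : cf 2352 = pk (Int.ofNat (Nat.pow 2 2352)) gens ∧ cf 48 = pk (Int.ofNat (Nat.pow 2 48)) gens := by decide +kernel

/-- the values of the form on the generators are divisible by 64 -/
private noncomputable def prs (R : List (List ℤ)) : Bool := tst 49 6 (dk (cf 2352) (mv R (cf 48)) 0 0)

private theorem prs_spec {R : List (List ℤ)} (hR : sh R = true) (h : prs R = true) (a b : ℕ) (ha : a < 49) (hb : b < 49) :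
    64 ∣ ∑ i ∈ range 24, en gens b i * ∑ j ∈ range 24, en R i j * en gens a j := by
  refine key (n := 49) (e := 6) (by decide) (by decide) (fun a b => ∑ i ∈ range 24, en gens b i * ∑ j ∈ range 24, en R i j * en gens a j)
    (fun a b => lt_of_le_of_lt (abs_sum fun i => abs_mul' (sh_abs sh_gens.1 b i)
      (abs_sum fun j => abs_mul' (sh_abs hR i j) (sh_abs sh_gens.1 a j))) (by decide)) ?_ a b ha hb
  have e : ∀ w : ℕ, Int.ofNat (Nat.pow 2 w) = 2 ^ w := fun w => Nat.cast_pow 2 w
  refine (congrArg (tst 49 6) ?_).trans h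
  rw [cf_eq.1, cf_eq.2, dk0, ← sum_range_getD _ _ 24 (pk_spec _ _ sh_gens.1).1.le, e, e, show 48 * 49 = 2352 from rfl, sum_congr rfl fun i hi => congrArg₂ _ ((pk_spec _ _ sh_gens.1).2 i (mem_range.1 hi)) ((mv_sum hR _ i).trans
    (sum_congr rfl fun j hj => congrArg _ ((pk_spec _ _ sh_gens.1).2 j (mem_range.1 hj)))), sh_gens.2]
  simp only [sum_mul, mul_sum]
  refine (sum_congr rfl fun b _ => sum_comm).trans (sum_comm.trans (sum_congr rfl fun i _ => ?_))
  refine (sum_congr rfl fun b _ => sum_comm).trans (sum_comm.trans (sum_congr rfl fun j _ => sum_comm.trans ?_))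
  exact sum_congr rfl fun a _ => sum_congr rfl fun b _ => by ring

/-- a basis among the generators -/
private def sel : List ℕ := [0, 2, 4, 5, 9, 12, 13, 15, 16, 21, 22, 23, 24, 27, 29, 36, 38, 39, 40, 42, 43, 44, 46, 48]

/-- the dual basis -/
private def du : List (List ℤ) :=
  (by
  refine (?fq9001 : (fun (Oz : (n : Nat) → OfNat Int n → Int) (Iz : (n : Nat) → OfNat Int n) (Gz : Int → Int) => ((pk61l (fun i1 => (pk61l (fun i2 => (pk61y Oz Iz Gz (pk61d (nat_lit 11) 
    (nat_lit 0x16093ef4168000001540000005be1800020f49e0bc0000027e00027800004008011729db049810020056a80100263a1880123d4ea0b4010022ba0082a802000000000bf50083cc3800000b7c000003300bc0012028006000000160000140000000000005020e360500000004c00000014e0600007710e01c0000008e000078000000000008f3e065c978000008dc0000027009c000e01f004000000110000100000000000007f36057c838000007bc0000022007c000c01b0040000000f00000c0000000000001005e0a0100000000e00000003e0000001702e0000000001e000000000000000004f21035c4f8000004bc0000015003c000781000200000009000008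000000000000180ae1201c0000001a00000006e0200002705e0000000002e00003800000000000983fe6a09c0000009400000028e0a0000e71fe03c0000011e0000f8000000000000802e040080000000600000001e0000000700e0000000000e000000000000000000f0700bc0f8000000fc0000004001c000180400000000002000004000000000000873905dc8b80000083c0000024009c000d01d004000000100000100000000100003b18827c3b80000038c000000f803c000580c80100000007000006000000000020843765b0880000007f000000236070000c71ae03c000000f60000b8000000000005c25e3f05c004000580000001860600008b12e02c000000a600009800000000000af4a87acb5800008abc000002f00cc0010c2600500000014800014000000000000431c82dc4580000040c0200012003c000640e00200000007800006000000000000240fe1a0280000002500000409e0300003b08600c00000046000038000000000003f19829c3d8000003ac0000010802c0205c0c80200000007000004000000000000130700ac118000000fc0000004800c000180380100200002000000000000000000c050e860c6000000bb0000003360d00012728e04c0000416600015800000000000c85468b0ce000000c20000003560e00012f2a605c0000017601015800000000000d4596930dc000000ce00000038e0d0001432c605c0000018e00015804)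 i2))) (Nat.mul (nat_lit 24) i1) (Nat.mul (nat_lit 24) (Nat.succ i1)) List.nil)) (nat_lit 0) (nat_lit 24) List.nil) : List (List ℤ)))
    = ?xq9001 → (List (List ℤ))) ?hq9001; (case hq9001 => (set_option maxRecDepth 1000000 in conv => lhs; reduce)); intro _; exact ?xq9001 (@OfNat.ofNat Int) (@instOfNat) (@Neg.neg Int Int.instNegInt) : List (List ℤ))

private theorem du_ok : (sh du = true ∧ du.length = 24 ∧ du.all leechB = true) ∧ sh (sel.map fun a => gens.getD a []) = true ∧
    prd du (sel.map fun a => gens.getD a []) 8 = true ∧ ∀ s < 24, sel.getD s 0 < 49 ∧ (sel.map fun a => gens.getD a []).getD s [] =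
      gens.getD (sel.getD s 0) [] := by decide +kernel

private theorem maskL_lt : ∀ l : List ℤ, maskL l < 2 ^ l.length
  | [] => Nat.one_pos
  | a :: t => by
    have := maskL_lt t
    show (a % 2).toNat + 2 * maskL t < 2 ^ (t.length + 1)
    omega

private theorem leechB_of {l : List ℤ} (hl : l.length = 24) (h : vec l ∈ leechLattice) : leechB l = true := by
  obtain ⟨m, z, h1, h2, h3⟩ := (LeechSet.mem_leechLattice_iff' _).1 h
  have h0 : l.headD 0 = m + 2 * z (GolayBase.pt 0) := by
    rw [← h1, vec_apply, GolayBase.idx_pt (by decide)]; cases l <;> rfl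
  have h4 : ∀ i (hi : i < l.length), l[i] = m + 2 * z (GolayBase.pt i) := fun i hi => by
    rw [← h1, vec_apply, GolayBase.idx_pt (hl ▸ hi), List.getD_eq_getElem _ _ hi]
  rw [sum_vec l hl.le] at h2
  have h5 := (GolayBase.mem_golayCode_iff _).1 (golayCode.add_mem h3 (golayCode.smul_mem ((m / 2 : ℤ) : ZMod 2) LeechSet.one_mem_golayCode))
  simp only [leechB, Bool.and_eq_true, List.all_eq_true, decide_eq_true_eq]
  refine ⟨⟨⟨hl ▸ Nat.beq_refl _, fun a ha => ?_⟩, by have : l.sum % 8 = 4 * m % 8 := h2; (clear * - h0 this; solve | lia | omega)⟩, ?_⟩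
  · obtain ⟨i, hi, rfl⟩ := List.getElem_of_mem ha
    have := h4 i hi
    (clear * - h0 this; omega)
  · convert h5 using 2
    refine GolayBase.eq_of_testBit_idx (by have := maskL_lt (l.map fun a => (a - l.headD 0 % 2) / 2); rwa [List.length_map, hl] at this)
      (GolayBase.maskW_lt _) fun p => ?_
    have hp : GolayBase.idx p < l.length := hl ▸ GolayBase.idx_lt p
    rw [testBit_maskL, GolayBase.testBit_maskW, List.getD_eq_getElem _ _ (by rwa [List.length_map]), List.getElem_map, h4 _ hp,
      GolayBase.pt_idx, decide_eq_decide, Pi.add_apply, Pi.smul_apply, Pi.one_apply, smul_eq_mul, mul_one, ← Int.cast_add, Ne,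
      ZMod.intCast_zmod_eq_zero_iff_dvd, Nat.cast_ofNat]
    omega

private theorem pres_of {A : List (List ℤ)} (hl : A.length = 24)
    (h : ∀ a b, a < 49 → b < 49 → 64 ∣ ∑ i ∈ range 24, en gens b i * ∑ j ∈ range 24, en A i j * en gens a j) : presB A = true := by
  obtain ⟨⟨d1, d2, d3⟩, d4, d5, d6⟩ := du_ok
  refine List.all_eq_true.2 fun g hg => ?_
  obtain ⟨a, ha, rfl⟩ := List.getElem_of_mem hg
  rw [← List.getD_eq_getElem _ [] ha]
  have e1 : ∀ i, dotL (gens.getD a []) (A.getD i []) = ∑ j ∈ range 24, en A i j * en gens a j := fun i =>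
    (sum_range_getD _ _ 24 (sh_le sh_gens.1 a)).symm.trans (sum_congr rfl fun j _ => mul_comm _ _)
  have h1 : ∀ s, ∃ c : ℤ, s < 24 → ∑ i ∈ range 24, en (sel.map fun a => gens.getD a []) s i * dotL (gens.getD a []) (A.getD i []) = 64 * c :=
    fun s => by
      by_cases hs : s < 24
      · obtain ⟨c, hc⟩ := h a _ (sh_gens.2 ▸ ha) (d6 s hs).1
        exact ⟨c, fun _ => by simp only [e1]; rw [← hc]; unfold en; rw [(d6 s hs).2]⟩
      · exact ⟨0, fun h => absurd h hs⟩
  choose c hc using h1
  have h2 : ∀ i < 24, dotL (gens.getD a []) (A.getD i []) = 8 * ∑ s ∈ range 24, c s * en du s i := fun i hi => by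
    refine mul_left_cancel₀ (show (8 : ℤ) ≠ 0 by decide) ?_
    have e2 : ∑ j ∈ range 24, (∑ s ∈ range 24, en du s i * en (sel.map fun a => gens.getD a []) s j) * dotL (gens.getD a []) (A.getD j []) =
        8 * dotL (gens.getD a []) (A.getD i []) := by
      rw [sum_eq_single i (fun j hj h => by rw [prd_spec d1 d4 d2 (by decide) d5 hi (mem_range.1 hj), if_neg h.symm, zero_mul])
        (fun h => absurd (mem_range.2 hi) h), prd_spec d1 d4 d2 (by decide) d5 hi hi, if_pos rfl]
    rw [← e2]
    simp only [sum_mul, mul_sum, mul_assoc]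
    rw [sum_comm]
    exact sum_congr rfl fun s hs => by rw [← mul_sum, hc s (mem_range.1 hs)]; ring
  refine Bool.and_eq_true_iff.2 ⟨List.all_eq_true.2 fun r hr => decide_eq_true ?_, leechB_of (by rw [List.length_map, hl]) ?_⟩
  · obtain ⟨i, hi, rfl⟩ := List.getElem_of_mem hr
    rw [← List.getD_eq_getElem _ [] hi, h2 i (hl ▸ hi)]
    exact Int.mul_emod_right _ _
  · have e3 : vec (A.map fun r => dotL (gens.getD a []) r / 8) = ∑ s ∈ range 24, c s • vec (du.getD s []) := funext fun p => by
      have hp : GolayBase.idx p < A.length := hl ▸ GolayBase.idx_lt p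
      rw [vec_apply, List.getD_eq_getElem _ _ (by rwa [List.length_map]), List.getElem_map, ← List.getD_eq_getElem _ [] hp,
        h2 _ (GolayBase.idx_lt p), Int.mul_ediv_cancel_left _ (by decide), Finset.sum_apply]
      rfl
    rw [e3]
    exact sum_mem fun s hs => leechLattice.zsmul_mem
      (vec_mem_of_leechB (List.all_eq_true.1 d3 _ (getD_mem_of_lt _ [] (d2 ▸ mem_range.1 hs)))) _

/-- all checks -/
private noncomputable def okq (R C : List (List ℤ)) : Bool :=
  Nat.beq R.length 24 && Nat.beq C.length 24 && sh R && sh C && trZ R C && prd R R 64 && prd C C 64 && prs R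

private theorem ok_of {R C : List (List ℤ)} (h : okq R C = true) : Ok R C := by
  simp only [okq, Bool.and_eq_true] at h
  obtain ⟨⟨⟨⟨⟨⟨⟨h1, h2⟩, h3⟩, h4⟩, h5⟩, h6⟩, h7⟩, h8⟩ := h
  have hR := Nat.eq_of_beq_eq_true h1
  have hC := Nat.eq_of_beq_eq_true h2
  have ht : ∀ i < 24, ∀ j < 24, en R i j = en C j i := fun i hi j hj => trZ_spec h5 i j (hR ▸ hi) (hC ▸ hj)
  have ble : ∀ {M : List (List ℤ)}, sh M = true → (M.all fun r => Nat.ble r.length 24) = true := fun hM =>
    List.all_eq_true.2 fun r hr => Nat.ble_eq_true_of_le (sh_len hM hr).le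
  have orth : ∀ {A B : List (List ℤ)}, sh A = true → sh B = true → A.length = 24 → (∀ i < 24, ∀ j < 24, en A i j = en B j i) →
      prd A A 64 = true → orthB B = true := fun {A B} hA hB hl ht hp =>
    List.all_eq_true.2 fun i hi => List.all_eq_true.2 fun j hj => decide_eq_true (by
      rw [← prd_spec hA hA hl (by decide) hp (List.mem_range.1 hi) (List.mem_range.1 hj), ← sum_range_getD _ _ 24 (sh_le hB i)]
      exact sum_congr rfl fun k hk => (congrArg₂ _ (ht k (mem_range.1 hk) i (List.mem_range.1 hi))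
        (ht k (mem_range.1 hk) j (List.mem_range.1 hj))).symm)
  refine ⟨hR, hC, ble h3, ble h4, List.all_eq_true.2 fun i hi => List.all_eq_true.2 fun j hj =>
    decide_eq_true (ht i (List.mem_range.1 hi) j (List.mem_range.1 hj)), orth h4 h3 hC (fun i hi j hj => (ht j hj i hi).symm) h7,
    orth h3 h4 hR ht h6, pres_of hR (prs_spec h3 h8), pres_of hC fun a b ha hb => ?_⟩
  convert prs_spec h3 h8 b a hb ha using 1
  simp only [mul_sum]
  rw [sum_comm]
  exact sum_congr rfl fun i hi => sum_congr rfl fun j hj => by rw [ht i (mem_range.1 hi) j (mem_range.1 hj)]; ring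

end Cfsg.Agent.Co0Q_H147_Fpr_CoOne

-- part: H147/Fpr/CoOneLet
section
/-!
# Explicit matrices (times 8) of elements of `Co0` for the row `p = 7` of `Co1` (helper147)

`u` (class 2C), `x` (order 7), `r` (the sign change on a dodecad), `g` with `u = g r g⁻¹`, `m` (order 11, commutes with `r`).
-/

set_option autoImplicit false

namespace Cfsg.Agent.H147.Fpr.CoOneLet

open Cfsg Cfsg.Agent.SporadicA Cfsg.Agent.SporadicStructure.Co0Matrix Cfsg.Agent.CoOneType.CoEval
  Cfsg.Agent.CoOneType

/-- Rows of `u`. -/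
def uR : List (List ℤ) :=
  (by
  refine (?fq9002 : ((pk61l (fun i1 => (pk61l (fun i2 => (pk61z (pk61d (nat_lit 4) 
    (nat_lit 0x803000400004000403084330003800300004000304703330330343033330333040340004083000300003700403003430004070400003070404003330003000480703000303003340430344044440333030330004003008407004000404003440003000470803000303003340003007408004000404003440003000400083000384004430440333043430443040330004003700300004000304803330003070300004070303004440003000300003007404004347430443043430334040430003004000300084000483003340340343043440434030340003073000300003800403003430804000300003000304083440430333033340344030330003330433043440343030440004330334044430344040340003004000400004007303003437) i2))) (Nat.mul (nat_lit 24) i1) (Nat.mul (nat_lit 24) (Nat.succ i1)) List.nil)) (nat_lit 0) (nat_lit 24) List.nil) : List (List ℤ))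
    = ?xq9002 → (List (List ℤ))) ?hq9002; (case hq9002 => (set_option maxRecDepth 1000000 in conv => lhs; reduce)); intro _; exact ?xq9002 : List (List ℤ))

/-- Columns of `u`. -/
def uC : List (List ℤ) := uR

theorem ok_u : Ok uR uC := Cfsg.Agent.Co0Q_H147_Fpr_CoOne.ok_of (by decide +kernel)

/-- Rows of `x`. -/
def xR : List (List ℤ) :=
  (by
  refine (?fq9003 : ((pk61l (fun i1 => (pk61l (fun i2 => (pk61z (pk61d (nat_lit 5) 
    (nat_lit 0x200) (pk61d (nat_lit 1) 
    (nat_lit 0x800000000010000004000080010000020000000100040000004000200000000020001000400000000008000002000200002000000040000800100000000001000400080000008000) i2)))) (Nat.mul (nat_lit 24) i1) (Nat.mul (nat_lit 24) (Nat.succ i1)) List.nil)) (nat_lit 0) (nat_lit 24) List.nil) : List (List ℤ))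
    = ?xq9003 → (List (List ℤ))) ?hq9003; (case hq9003 => (set_option maxRecDepth 1000000 in conv => lhs; reduce)); intro _; exact ?xq9003 : List (List ℤ))

/-- Columns of `x`. -/
def xC : List (List ℤ) :=
  (by
  refine (?fq9004 : ((pk61l (fun i1 => (pk61l (fun i2 => (pk61z (pk61d (nat_lit 5) 
    (nat_lit 0x200) (pk61d (nat_lit 1) 
    (nat_lit 0x800000000800004000000010000002010000040000080000000001008000000080001000000020000004000100020000100000000040002000400000000400200000000200000008) i2)))) (Nat.mul (nat_lit 24) i1) (Nat.mul (nat_lit 24) (Nat.succ i1)) List.nil)) (nat_lit 0) (nat_lit 24) List.nil) : List (List ℤ))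
    = ?xq9004 → (List (List ℤ))) ?hq9004; (case hq9004 => (set_option maxRecDepth 1000000 in conv => lhs; reduce)); intro _; exact ?xq9004 : List (List ℤ))

theorem ok_x : Ok xR xC := Cfsg.Agent.Co0Q_H147_Fpr_CoOne.ok_of (by decide +kernel)

/-- Rows of `r`. -/
def rR : List (List ℤ) :=
  (by
  refine (?fq9005 : ((pk61l (fun i1 => (pk61l (fun i2 => (pk61z (pk61d (nat_lit 5) 
    (nat_lit 0x41e0) (pk61d (nat_lit 2) 
    (nat_lit 0x800000000000200000000000040000000000010000000000004000000000001000000000000400000000000200000000000080000000000010000000000008000000000002000000000000800000000000100000000000040000000000020000000000004000000000002000000000000400000000000100000000000080000000000020000000000008000000000001) i2)))) (Nat.mul (nat_lit 24) i1) (Nat.mul (nat_lit 24) (Nat.succ i1)) List.nil)) (nat_lit 0) (nat_lit 24) List.nil) : List (List ℤ))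
    = ?xq9005 → (List (List ℤ))) ?hq9005; (case hq9005 => (set_option maxRecDepth 1000000 in conv => lhs; reduce)); intro _; exact ?xq9005 : List (List ℤ))

/-- Columns of `r`. -/
def rC : List (List ℤ) := rR

theorem ok_r : Ok rR rC := Cfsg.Agent.Co0Q_H147_Fpr_CoOne.ok_of (by decide +kernel)

/-- Rows of `g`. -/
def gR : List (List ℤ) :=
  (by
  refine (?fq9006 : ((pk61l (fun i1 => (pk61l (fun i2 => (pk61z (pk61d (nat_lit 4) 
    (nat_lit 0x870000000004030030034344444333434430404304400000008000007003030030033333444444434330403403300000000087000003030040044334444344344340304303400000000000800004740040034333444433344440303404300000334333334330303303300000334444334430304404400000000000070084030030044433000000000704030048043343334344444440403304300000000087000004040030033443000000000003038040734443000700000003040830044343000000070083040040033344000000000703040038034434334433444340404403400000870000000003040040043433008000007004040040044444000700000004030840033434000000800003730030043444000000000004048030743334)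 i2))) (Nat.mul (nat_lit 24) i1) (Nat.mul (nat_lit 24) (Nat.succ i1)) List.nil)) (nat_lit 0) (nat_lit 24) List.nil) : List (List ℤ))
    = ?xq9006 → (List (List ℤ))) ?hq9006; (case hq9006 => (set_option maxRecDepth 1000000 in conv => lhs; reduce)); intro _; exact ?xq9006 : List (List ℤ))

/-- Columns of `g`. -/
def gC : List (List ℤ) :=
  (by
  refine (?fq9007 : ((pk61l (fun i1 => (pk61l (fun i2 => (pk61z (pk61d (nat_lit 4) 
    (nat_lit 0x840404043300300000380000740404043300300000370000048404044400400000408000030403043400300700400700030484033400480000300000030474033400470000300000040403833300400000400080030304043370400070400000047404044400400000407000040303043407400007300000030304043380400080400000403030400044043333034434040403733300400000400070303030400033043444044334040304033400308000400008030403043400300800400800303040400034034343044433040303043408400008300000040304033400307000400007303040300044033433044344403040400043034434034333303030300043044334044443403030300034044443034343403040300033033344034444)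 i2))) (Nat.mul (nat_lit 24) i1) (Nat.mul (nat_lit 24) (Nat.succ i1)) List.nil)) (nat_lit 0) (nat_lit 24) List.nil) : List (List ℤ))
    = ?xq9007 → (List (List ℤ))) ?hq9007; (case hq9007 => (set_option maxRecDepth 1000000 in conv => lhs; reduce)); intro _; exact ?xq9007 : List (List ℤ))

theorem ok_g : Ok gR gC := Cfsg.Agent.Co0Q_H147_Fpr_CoOne.ok_of (by decide +kernel)

/-- Rows of `m`. -/
def mR : List (List ℤ) :=
  (by
  refine (?fq9008 : ((pk61l (fun i1 => (pk61l (fun i2 => (pk61z (pk61d (nat_lit 5) 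
    (nat_lit 0x200) (pk61d (nat_lit 1) 
    (nat_lit 0x4800000040000000200000010004000000080000040400000000020010000008000000800000400200000000002080000000100020000000001002000000008001000100000) i2)))) (Nat.mul (nat_lit 24) i1) (Nat.mul (nat_lit 24) (Nat.succ i1)) List.nil)) (nat_lit 0) (nat_lit 24) List.nil) : List (List ℤ))
    = ?xq9008 → (List (List ℤ))) ?hq9008; (case hq9008 => (set_option maxRecDepth 1000000 in conv => lhs; reduce)); intro _; exact ?xq9008 : List (List ℤ))

/-- Columns of `m`. -/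
def mC : List (List ℤ) :=
  (by
  refine (?fq9009 : ((pk61l (fun i1 => (pk61l (fun i2 => (pk61z (pk61d (nat_lit 5) 
    (nat_lit 0x200) (pk61d (nat_lit 1) 
    (nat_lit 0x400000008000000200000001000080200000000020002000001000040000000008000002000800000400100000000040020000010000004000080000000004800000000100000010) i2)))) (Nat.mul (nat_lit 24) i1) (Nat.mul (nat_lit 24) (Nat.succ i1)) List.nil)) (nat_lit 0) (nat_lit 24) List.nil) : List (List ℤ))
    = ?xq9009 → (List (List ℤ))) ?hq9009; (case hq9009 => (set_option maxRecDepth 1000000 in conv => lhs; reduce)); intro _; exact ?xq9009 : List (List ℤ))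

theorem ok_m : Ok mR mC := Cfsg.Agent.Co0Q_H147_Fpr_CoOne.ok_of (by decide +kernel)

end Cfsg.Agent.H147.Fpr.CoOneLet
end

namespace Cfsg.Agent.Co0A_H147_Fpr_CoOne

open Cfsg Cfsg.Agent.SporadicA Cfsg.Agent.SporadicStructure.Co0Matrix Cfsg.Agent.CoOneType.CoEval

/-- dot product with two accumulators -/
private noncomputable def dk (r : List ℤ) : List ℤ → ℕ → ℕ → ℤ :=
  List.rec (fun _ P N => Int.subNatNat P N) (fun a _ ih l P N => List.rec (Int.subNatNat P N) (fun b t _ =>
    Int.rec (fun x => Int.rec (fun y => ih t (Nat.add P (Nat.mul x y)) N) (fun y => ih t P (Nat.add N (Nat.mul x (Nat.succ y)))) b)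
      (fun x => Int.rec (fun y => ih t P (Nat.add N (Nat.mul (Nat.succ x) y)))
        (fun y => ih t (Nat.add P (Nat.mul (Nat.succ x) (Nat.succ y))) N) b) a) l) r

private theorem dk_eq : ∀ (r l : List ℤ) (P N : ℕ), dk r l P N = P - N + dotL r l
  | [], l, P, N => by rw [dotL_nil_left, add_zero]; exact Int.subNatNat_eq_coe
  | a :: s, [], P, N => by rw [dotL_nil_right, add_zero]; exact Int.subNatNat_eq_coe
  | .ofNat x :: s, .ofNat y :: t, P, N => (dk_eq s t (P + x * y) N).trans (by
      rw [dotL_cons, Int.ofNat_eq_natCast, Int.ofNat_eq_natCast]; push_cast; ring)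
  | .ofNat x :: s, .negSucc y :: t, P, N => (dk_eq s t P (N + x * (y + 1))).trans (by
      rw [dotL_cons, Int.ofNat_eq_natCast, Int.negSucc_eq]; push_cast; ring)
  | .negSucc x :: s, .ofNat y :: t, P, N => (dk_eq s t P (N + (x + 1) * y)).trans (by
      rw [dotL_cons, Int.ofNat_eq_natCast, Int.negSucc_eq]; push_cast; ring)
  | .negSucc x :: s, .negSucc y :: t, P, N => (dk_eq s t (P + (x + 1) * (y + 1)) N).trans (by
      rw [dotL_cons, Int.negSucc_eq, Int.negSucc_eq]; push_cast; ring)

/-- the columns, packed -/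
private noncomputable def pk (A : List (List ℤ)) : List ℤ :=
  List.rec (List.replicate 24 0) (fun g _ s => List.zipWith (fun a b => a + 187072209578355573530071658587695627230779288774677 * b) g s) A

/-- the offset -/
private noncomputable def off (A : List (List ℤ)) : ℕ :=
  List.rec 0 (fun _ _ s => 46768052394588893382517914646921056628989841375232 + 187072209578355573530071658587695627230779288774677 * s) A

/-- the digits, divided by 8 -/
private noncomputable def unp (A : List (List ℤ)) : ℕ → List ℤ :=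
  List.rec (fun _ => []) (fun _ _ ih P => Int.subNatNat (Nat.div (Nat.mod P (nat_lit 187072209578355573530071658587695627230779288774677))
    (nat_lit 8)) (nat_lit 5846006549323611672814739330865132078623730171904) ::
    ih (Nat.div P (nat_lit 187072209578355573530071658587695627230779288774677))) A

/-- small entries -/
private noncomputable def sm (B : ℕ) (l : List ℤ) : Bool :=
  List.rec true (fun a _ ih => cond (Nat.ble (Int.rec (fun x => x) (fun x => Nat.succ x) a) B) ih false) l

private theorem sm_cons {B : ℕ} {a : ℤ} {l : List ℤ} (h : sm B (a :: l) = true) : |a| ≤ B ∧ sm B l = true := by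
  have h1 : cond (Nat.ble a.natAbs B) (sm B l) false = true := by cases a <;> exact h
  cases h2 : Nat.ble a.natAbs B
  · rw [h2] at h1; exact absurd h1 Bool.false_ne_true
  · rw [h2] at h1
    exact ⟨by rw [Int.abs_eq_natAbs]; exact Int.ofNat_le.2 (Nat.le_of_ble_eq_true h2), h1⟩

private theorem abs_dot {B C : ℕ} : ∀ {l r : List ℤ}, sm B l = true → sm C r = true → |dotL l r| ≤ r.length * (B * C)
  | [], r, _, _ => by rw [dotL_nil_left, abs_zero]; positivity
  | _ :: _, [], _, _ => by rw [dotL_nil_right, abs_zero]; positivity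
  | a :: l, b :: r, h1, h2 => by
    rw [dotL_cons, List.length_cons, Nat.cast_succ, add_mul, one_mul, add_comm _ ((B : ℤ) * C)]
    exact (abs_add_le _ _).trans (add_le_add ((abs_mul a b).trans_le (mul_le_mul (sm_cons h1).1 (sm_cons h2).1 (abs_nonneg _)
      (Int.natCast_nonneg _))) (abs_dot (sm_cons h1).2 (sm_cons h2).2))

private theorem dot_zip (X : ℤ) : ∀ (l g s : List ℤ), g.length = s.length →
    dotL l (List.zipWith (fun a b => a + X * b) g s) = dotL l g + X * dotL l s
  | [], _, _, _ => by rw [dotL_nil_left, dotL_nil_left, dotL_nil_left, mul_zero, add_zero]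
  | _ :: _, [], [], _ => by rw [List.zipWith_nil_left, dotL_nil_right, mul_zero, add_zero]
  | _ :: _, [], _ :: _, h => absurd h.symm (Nat.succ_ne_zero _)
  | _ :: _, _ :: _, [], h => absurd h (Nat.succ_ne_zero _)
  | c :: l, a :: g, b :: s, h => by
    rw [List.zipWith_cons_cons, dotL_cons, dotL_cons, dotL_cons, dot_zip X l g s (Nat.succ.inj h)]; ring

private theorem dot_rep : ∀ (l : List ℤ) (n : ℕ), dotL l (List.replicate n 0) = 0
  | [], _ => dotL_nil_left _
  | _ :: _, 0 => rfl
  | a :: l, n + 1 => by rw [List.replicate_succ, dotL_cons, dot_rep l n, mul_zero, add_zero]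

/-- shape of the matrix -/
private noncomputable def sh (A : List (List ℤ)) : Bool :=
  List.rec true (fun r _ ih => Nat.beq r.length 24 && (sm 1000 r && ih)) A

private theorem unp_eq {l : List ℤ} (hl : sm 1427247692705959881058285969449495136382746624 l = true) : ∀ A : List (List ℤ), sh A = true →
    (pk A).length = 24 ∧ 0 ≤ off A + dotL l (pk A) ∧ ∀ P : ℕ, (P : ℤ) = off A + dotL l (pk A) → unp A P = ap A l
  | [], _ => ⟨rfl, (congrArg (0 + ·) (dot_rep l 24)).ge, fun _ _ => rfl⟩
  | r :: A, h => by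
    obtain ⟨h1, h⟩ := Bool.and_eq_true_iff.1 h
    obtain ⟨h2, h⟩ := Bool.and_eq_true_iff.1 h
    obtain ⟨h3, h4, h5⟩ := unp_eq hl A h
    have h6 := Nat.eq_of_beq_eq_true h1
    have h7 := abs_le.1 (abs_dot hl h2)
    have h8 : (off (r :: A) : ℤ) + dotL l (pk (r :: A)) = dotL l r + 46768052394588893382517914646921056628989841375232 +
        187072209578355573530071658587695627230779288774677 * (off A + dotL l (pk A)) := by
      rw [show dotL l (pk (r :: A)) = _ from dot_zip _ l r (pk A) (h6.trans h3.symm), show off (r :: A) =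
        46768052394588893382517914646921056628989841375232 + 187072209578355573530071658587695627230779288774677 * off A from rfl]
      push_cast
      ring
    rw [h6] at h7
    rw [h8]
    generalize (off A : ℤ) + dotL l (pk A) = z at h4 h5
    refine ⟨(List.length_zipWith.trans (congrArg₂ min h6 h3) :), by omega, fun P hP => congrArg₂ List.cons ?_
      (h5 (P / 187072209578355573530071658587695627230779288774677) (by omega))⟩
    show Int.subNatNat (P % 187072209578355573530071658587695627230779288774677 / 8)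
      5846006549323611672814739330865132078623730171904 = dotL l r / 8
    rw [Int.subNatNat_eq_coe]
    (clear * - h7 hP; omega)

/-- matrix times vector -/
private noncomputable def apF (A : List (List ℤ)) (l : List ℤ) : List ℤ :=
  cond (sh A) (cond (sm 1427247692705959881058285969449495136382746624 l) (Nat.casesOn (motive := fun _ => List ℤ)
    (Int.toNat (dk l (pk A) (off A) 0)) (unp A 0) (fun P => unp A (Nat.succ P))) (ap A l)) (ap A l)

private theorem apF_eq : apF = ap := funext fun A => funext fun l => by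
  unfold apF
  cases h1 : sh A
  · rfl
  cases h2 : sm 1427247692705959881058285969449495136382746624 l
  · rfl
  obtain ⟨-, h3, h4⟩ := unp_eq h2 A h1
  have h5 := h4 (Int.toNat (dk l (pk A) (off A) 0)) (by rw [dk_eq, Nat.cast_zero, sub_zero]; exact Int.toNat_of_nonneg h3)
  generalize Int.toNat (dk l (pk A) (off A) 0) = P at h5
  cases P <;> exact h5

end Cfsg.Agent.Co0A_H147_Fpr_CoOne

-- part: H147/Fpr/CoOneRel
section
/-!
# Relations between the elements of `Co1` (helper147)
-/

set_option autoImplicit false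
set_option maxRecDepth 100000

namespace Cfsg.Agent.H147.Fpr.CoOneRel

open Cfsg Cfsg.Agent.SporadicA Cfsg.Agent.SporadicStructure.Co0Matrix Cfsg.Agent.CoOneType.CoEval
  Cfsg.Agent.H147.Fpr.CoOneLet

/-- The matrices of the letters `u x x⁻¹ r g g⁻¹ m`. -/
def M : ℕ → List (List ℤ)
  | 0 => uR
  | 1 => xR
  | 2 => xC
  | 3 => rR
  | 4 => gR
  | 5 => gC
  | _ => mR

/-- The letters in `Co0`. -/
def e : ℕ → Co0
  | 0 => mk ok_u
  | 1 => mk ok_x
  | 2 => (mk ok_x)⁻¹
  | 3 => mk ok_r
  | 4 => mk ok_g
  | 5 => (mk ok_g)⁻¹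
  | _ => mk ok_m

theorem hM : ∀ i, _root_.Cfsg.Agent.CoOneType.CoEval.Rep (e i) (M i)
  | 0 => rep_mk ok_u
  | 1 => rep_mk ok_x
  | 2 => rep_inv ok_x
  | 3 => rep_mk ok_r
  | 4 => rep_mk ok_g
  | 5 => rep_inv ok_g
  | _ + 6 => rep_mk ok_m

/-- the involution -/
def u : Spor.Co1 := pr (e 0)
/-- the element of order 7 -/
def x : Spor.Co1 := pr (e 1)
/-- the sign change -/
def r : Spor.Co1 := pr (e 3)
/-- the conjugator -/
def g : Spor.Co1 := pr (e 4)
/-- the element of order 11 -/
def m : Spor.Co1 := pr (e 6)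

theorem pr_inv (a : Co0) : pr a⁻¹ = (pr a)⁻¹ := map_inv (QuotientGroup.mk' (Subgroup.center Co0)) a

/-- Value of a word. -/
abbrev val (w : List ℕ) : Spor.Co1 := (w.map fun i => pr (e i)).prod

theorem rel {u v : List ℕ} (h : sameB M u v = true) : val u = val v := eq_of_sameB hM h

private theorem relF {u v : List ℕ} (h : (fun l l' => eqL l l' || eqL l (negL l'))
    (u.foldr (fun i l => Co0A_H147_Fpr_CoOne.apF (M i) l) betaL)
    (v.foldr (fun i l => Co0A_H147_Fpr_CoOne.apF (M i) l) betaL) = true) : val u = val v :=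
  rel (by rw [Co0A_H147_Fpr_CoOne.apF_eq] at h; exact h)

theorem e2 : pr (e 2) = x⁻¹ := pr_inv _
theorem e5 : pr (e 5) = g⁻¹ := pr_inv _

theorem ne {w : List ℕ} (h : neB M w = true) : val w ≠ 1 := ne_one_of_neB hM h

private theorem neF {w : List ℕ} (h : (fun l => (!(eqL l betaL) && !(eqL l negbetaL)) && Nat.beq l.length 24)
    (w.foldr (fun i l => Co0A_H147_Fpr_CoOne.apF (M i) l) betaL) = true) : val w ≠ 1 :=
  ne (by rw [Co0A_H147_Fpr_CoOne.apF_eq] at h; exact h)

theorem val_pow (w : List ℕ) (n : ℕ) : val ((List.replicate n w).flatten) = (val w) ^ n := by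
  induction n with
  | zero => rw [pow_zero]; rfl
  | succ n ih =>
    rw [List.replicate_succ, List.flatten_cons, pow_succ', ← ih]
    simp only [val, List.map_append, List.prod_append]

theorem r2 : r * r = 1 := by
  have h := relF (u := [3, 3]) (v := []) (by decide +kernel)
  simp only [val, List.map_cons, List.map_nil, List.prod_cons, List.prod_nil, mul_one] at h
  exact h

theorem u_eq : u = g * r * g⁻¹ := by
  have h := relF (u := [0]) (v := [4, 3, 5]) (by decide +kernel)
  simp only [val, List.map_cons, List.map_nil, List.prod_cons, List.prod_nil, mul_one, e5] at h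
  rw [mul_assoc]
  exact h

theorem x7 : x ^ 7 = 1 := by
  have h := relF (u := (List.replicate 7 [1]).flatten) (v := []) (by decide +kernel)
  rw [val_pow] at h
  simp only [val, List.map_cons, List.map_nil, List.prod_cons, List.prod_nil, mul_one] at h
  exact h

theorem ux7 : (u * x) ^ 7 = 1 := by
  have h := relF (u := (List.replicate 7 [0, 1]).flatten) (v := []) (by decide +kernel)
  rw [val_pow] at h
  simp only [val, List.map_cons, List.map_nil, List.prod_cons, List.prod_nil, mul_one] at h
  exact h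

theorem rx7 : (r * x) ^ 7 = 1 := by
  have h := relF (u := (List.replicate 7 [3, 1]).flatten) (v := []) (by decide +kernel)
  rw [val_pow] at h
  simp only [val, List.map_cons, List.map_nil, List.prod_cons, List.prod_nil, mul_one] at h
  exact h

theorem cm1 : r * (x ^ 1 * r * (x ^ 1)⁻¹) = (x ^ 1 * r * (x ^ 1)⁻¹) * r := by
  have h := relF (u := [3, 1, 3, 2]) (v := [1, 3, 2, 3]) (by decide +kernel)
  simp only [val, List.map_cons, List.map_nil, List.prod_cons, List.prod_nil, mul_one, e2] at h
  rw [pow_one]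
  simp only [mul_assoc]
  exact h

theorem cm2 : r * (x ^ 2 * r * (x ^ 2)⁻¹) = (x ^ 2 * r * (x ^ 2)⁻¹) * r := by
  have h := relF (u := [3, 1, 1, 3, 2, 2]) (v := [1, 1, 3, 2, 2, 3]) (by decide +kernel)
  simp only [val, List.map_cons, List.map_nil, List.prod_cons, List.prod_nil, mul_one, e2] at h
  rw [← inv_pow, pow_two, pow_two]
  simp only [mul_assoc]
  exact h

theorem cm3 : r * (x ^ 3 * r * (x ^ 3)⁻¹) = (x ^ 3 * r * (x ^ 3)⁻¹) * r := by
  have h := relF (u := [3, 1, 1, 1, 3, 2, 2, 2]) (v := [1, 1, 1, 3, 2, 2, 2, 3]) (by decide +kernel)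
  simp only [val, List.map_cons, List.map_nil, List.prod_cons, List.prod_nil, mul_one, e2] at h
  rw [← inv_pow, pow_three, pow_three]
  simp only [mul_assoc]
  exact h

theorem m11 : m ^ 11 = 1 := by
  have h := relF (u := (List.replicate 11 [6]).flatten) (v := []) (by decide +kernel)
  rw [val_pow] at h
  simp only [val, List.map_cons, List.map_nil, List.prod_cons, List.prod_nil, mul_one] at h
  exact h

theorem mr : m * r = r * m := by
  have h := relF (u := [6, 3]) (v := [3, 6]) (by decide +kernel)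
  simp only [val, List.map_cons, List.map_nil, List.prod_cons, List.prod_nil, mul_one] at h
  exact h

theorem m_ne : m ≠ 1 := by
  have h := neF (w := [6]) (by decide +kernel)
  simp only [val, List.map_cons, List.map_nil, List.prod_cons, List.prod_nil, mul_one] at h
  exact h

theorem r_ne : r ≠ 1 := by
  have h := neF (w := [3]) (by decide +kernel)
  simp only [val, List.map_cons, List.map_nil, List.prod_cons, List.prod_nil, mul_one] at h
  exact h

theorem x_ne : x ≠ 1 := by
  have h := neF (w := [1]) (by decide +kernel)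
  simp only [val, List.map_cons, List.map_nil, List.prod_cons, List.prod_nil, mul_one] at h
  exact h

theorem ux_ne : u * x ≠ 1 := by
  have h := neF (w := [0, 1]) (by decide +kernel)
  simp only [val, List.map_cons, List.map_nil, List.prod_cons, List.prod_nil, mul_one] at h
  exact h

/-- the word of order 23 -/
def w23 : Spor.Co1 := val [2, 0, 2, 2]
/-- the word of order 39 -/
def w13 : Spor.Co1 := val [0, 2, 2, 2, 0, 1, 1]

theorem w23_pow : w23 ^ 23 = 1 := by
  have h := relF (u := (List.replicate 23 [2, 0, 2, 2]).flatten) (v := []) (by decide +kernel)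
  rw [val_pow] at h
  exact h

theorem w23_ne : w23 ≠ 1 := neF (w := [2, 0, 2, 2]) (by decide +kernel)

theorem w13_pow : w13 ^ 39 = 1 := by
  have h := relF (u := (List.replicate 39 [0, 2, 2, 2, 0, 1, 1]).flatten) (v := []) (by decide +kernel)
  rw [val_pow] at h
  exact h

theorem w13_ne : w13 ^ 3 ≠ 1 := by
  have h := neF (w := (List.replicate 3 [0, 2, 2, 2, 0, 1, 1]).flatten) (by decide +kernel)
  rw [val_pow] at h
  exact h

theorem w23_eq : w23 = x⁻¹ * (u * (x⁻¹ * x⁻¹)) := by
  simp only [w23, val, List.map_cons, List.map_nil, List.prod_cons, List.prod_nil, mul_one, e2]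
  rfl

theorem w13_eq : w13 = u * (x⁻¹ * (x⁻¹ * (x⁻¹ * (u * (x * x))))) := by
  simp only [w13, val, List.map_cons, List.map_nil, List.prod_cons, List.prod_nil, mul_one, e2]
  rfl

end Cfsg.Agent.H147.Fpr.CoOneRel
end

namespace Cfsg.Agent.Co0B_H147_Fpr_CoOne

open Cfsg.Agent.H940.Eng

/-- evaluate the argument first -/
private noncomputable def frc (x : ℕ) (f : ℕ → Bool) : Bool :=
  Nat.rec (motive := fun _ => Bool) (f 0) (fun m _ => f (Nat.succ m)) x

private theorem frc_eq (x : ℕ) (f : ℕ → Bool) : frc x f = f x := by cases x <;> rfl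

private theorem beq_e (a b : ℕ) : (a == b) = Nat.beq a b :=
  Bool.eq_iff_iff.2 ⟨fun h => by rw [eq_of_beq h]; exact Nat.beq_refl b,
    fun h => by rw [Nat.eq_of_beq_eq_true h]; exact beq_self_eq_true b⟩

private theorem val_gcd (p : ℕ) : ∀ e k : ℕ, val p e (Nat.gcd k (p ^ e)) = val p e k
  | 0, _ => rfl
  | e + 1, k => by
    rcases Nat.eq_zero_or_pos p with rfl | hp
    · rw [pow_succ, mul_zero, Nat.gcd_zero_right]
    show (if Nat.gcd k (p ^ (e + 1)) % p == 0 then val p e (Nat.gcd k (p ^ (e + 1)) / p) + 1 else 0) =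
      (if k % p == 0 then val p e (k / p) + 1 else 0)
    by_cases h : p ∣ k
    · obtain ⟨c, rfl⟩ := h
      rw [pow_succ', Nat.gcd_mul_left, Nat.mul_mod_right, Nat.mul_mod_right, Nat.mul_div_cancel_left _ hp,
        Nat.mul_div_cancel_left _ hp, val_gcd p e c]
    · have h1 : ¬ (k % p == 0) = true := fun h2 => h (Nat.dvd_of_mod_eq_zero (eq_of_beq h2))
      have h2 : ¬ (Nat.gcd k (p ^ (e + 1)) % p == 0) = true := fun h2 =>
        h ((Nat.dvd_of_mod_eq_zero (eq_of_beq h2)).trans (Nat.gcd_dvd_left _ _))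
      rw [if_neg h1, if_neg h2]

/-- `pc`; the test of an exponent is evaluated once -/
private noncomputable def pcF (l : List (ℕ × ℕ)) (r C k : ℕ) : Bool :=
  l.all fun x => frc (Nat.gcd k (Nat.pow x.1 x.2)) fun g => okexp r C x.1 (val x.1 x.2 g)

private theorem pcF_eq (l : List (ℕ × ℕ)) (r C k : ℕ) : pcF l r C k = pc l r C k := by
  show (l.all fun x => frc (Nat.gcd k (x.1 ^ x.2)) fun g => okexp r C x.1 (val x.1 x.2 g)) =
    l.all fun x => okexp r C x.1 (val x.1 x.2 k)
  simp only [frc_eq, val_gcd]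

/-- `feasS` -/
private noncomputable def feasSF (l : List (ℕ × ℕ)) (D : List ℕ) (r C N m s : ℕ) : Bool :=
  Nat.beq (Nat.mod m s) 0 && frc (Nat.div m s) fun q => D.any fun t => Nat.beq (Nat.mod (Nat.div N r) t) 0 &&
    (Nat.beq (Nat.mod q t) 0 && frc (Nat.div q t) fun k => !(Nat.beq (Nat.mod k r) 0) && (pcF l r C k && nuc D r N s t))

private theorem feasSF_eq (l : List (ℕ × ℕ)) (D : List ℕ) (r C N m s : ℕ) :
    feasSF l D r C N m s = feasS l D r C N m s := by
  show (Nat.beq (m % s) 0 && frc (m / s) fun q => D.any fun t => Nat.beq ((N / r) % t) 0 &&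
    (Nat.beq (q % t) 0 && frc (q / t) fun k => !(Nat.beq (k % r) 0) && (pcF l r C k && nuc D r N s t))) =
    (m % s == 0 && D.any fun t => (N / r) % t == 0 && (m / s) % t == 0 && !((m / s / t) % r == 0) &&
      pc l r C (m / s / t) && nuc D r N s t)
  simp only [frc_eq, pcF_eq, beq_e, Bool.and_assoc]

/-- `feas` -/
private noncomputable def feasF (l : List (ℕ × ℕ)) (ld : LD) (ords : List ℕ) (m : ℕ) : Bool :=
  ((divsT ld.fN).any fun y => y % ld.r == 0 && m % y == 0 && (m / y) % ld.r == 1 % ld.r) &&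
    (ld.r :: ords).any fun s => Nat.beq (Nat.mod s ld.r) 0 && feasSF l (divsT ld.fN) ld.r ld.C ld.N m s

private theorem feasF_eq : feasF = feas := by
  funext l ld ords m
  show (((divsT ld.fN).any fun y => y % ld.r == 0 && m % y == 0 && (m / y) % ld.r == 1 % ld.r) &&
    (ld.r :: ords).any fun s => Nat.beq (s % ld.r) 0 && feasSF l (divsT ld.fN) ld.r ld.C ld.N m s) =
    (((divsT ld.fN).any fun y => y % ld.r == 0 && m % y == 0 && (m / y) % ld.r == 1 % ld.r) &&
    (ld.r :: ords).any fun s => s % ld.r == 0 && feasS l (divsT ld.fN) ld.r ld.C ld.N m s)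
  simp only [feasSF_eq, beq_e]

/-- `bad` -/
private noncomputable def badF (l : List (ℕ × ℕ)) (n : ℕ) (full : List ℕ) (bd : ℕ) (loc : List LD) (ords : List ℕ)
    (m : ℕ) : Bool :=
  frc m fun m => (full.any fun p => (n / m) % p != 1 % p) || (Nat.ble (n / m) bd && (n / m).factorial % n != 0) ||
    loc.any fun ld => m % ld.r == 0 && !(feasF l ld ords m)

private theorem badF_eq : bad = badF := by
  funext l n full bd loc ords m
  delta badF
  rw [frc_eq, feasF_eq]
  rfl

open Cfsg.Agent.H444.Fpr

private theorem okF_mod (r m n : ℕ) : okF r m (Nat.mod n r) = okF r m n := funext fun f => by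
  show okF r m (n % r) f = _
  unfold okF
  rw [Nat.mod_mod]

/-- the list of the possible numbers of fixed points; it is evaluated once for each residue -/
private noncomputable def wl (d : ℕ × ℕ × ℕ) (n : ℕ) (g : List ℕ → Bool) : Bool :=
  frc (Nat.mod n d.1) fun ρ => frc (min n (d.2.1 * d.2.2 + 1)) fun k => g ((List.range k).filter (okF d.1 (d.2.1 * d.2.2) ρ))

/-- `adm` -/
private noncomputable def admF (D : List (ℕ × ℕ × ℕ)) (n : ℕ) : Bool := D.all fun d => wl d n fun L => L.any fun _ => true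

private theorem admF_eq (D : List (ℕ × ℕ × ℕ)) (n : ℕ) : admF D n = adm D n := by
  unfold admF adm wl
  simp only [frc_eq, okF_mod, List.any_filter, Bool.and_true]

/-- `opt` -/
private noncomputable def optF (a b p n : ℕ) (d : ℕ × ℕ × ℕ) : Bool :=
  (!Nat.beq p d.1 && Nat.beq (d.2.2 % p) 0 && wl d n fun L => L.all fun f =>
      Nat.ble (a * ((bif !Nat.beq f 0 && Nat.beq ((d.2.1 * d.2.2) % (f * p)) 0 then f else 0) + (n - f) / d.1)) (b * n)) ||
  (Nat.beq p d.1 && wl d n fun L => L.all fun f => Nat.ble (a * f) (b * n))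

private theorem optF_eq (a b p n : ℕ) : optF a b p n = opt a b p n := funext fun d => by
  unfold optF opt wl
  simp only [frc_eq, okF_mod, List.all_filter]

/-- `chkC` without the test `vac` -/
private noncomputable def chkE (l : List (ℕ × ℕ)) (n p a b : ℕ) (D : List (ℕ × ℕ × ℕ)) (bd : ℕ) (loc : List LD) (ords : List ℕ)
    (d : ℕ) : Bool :=
  (Nat.beq (d % p) 0 && !Nat.beq (n % p ^ 3) 0) || (!admF D d || (D.any (optF a b p d) || badF l n [] bd loc ords (n / d)))

private theorem chkC_of_E {l : List (ℕ × ℕ)} {n p a b : ℕ} {J : List ℕ} {D : List (ℕ × ℕ × ℕ)} {cent : List ℕ} {bd : ℕ}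
    {loc : List LD} {ords : List ℕ} {d : ℕ} (h : (vac n p J d || chkE l n p a b D bd loc ords d) = true) :
    Cfsg.Agent.H147.Fpr.chkC l n p a b J D cent bd loc ords d = true := by
  unfold chkE at h
  rw [admF_eq, optF_eq, ← badF_eq] at h
  unfold Cfsg.Agent.H147.Fpr.chkC H444.Fpr.chk
  revert h
  generalize vac n p J d = x1, adm D d = x2, D.any (opt a b p d) = x3, (Nat.beq (d % p) 0 && !Nat.beq (n % p ^ 3) 0) = x4,
    (cent.any fun c => Nat.ble (a * c) (b * d)) = x5, bad l n [] bd loc ords (n / d) = x6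
  revert x1 x2 x3 x4 x5 x6
  decide

private theorem all_of {l : List (ℕ × ℕ)} {n p a b : ℕ} {J : List ℕ} {D : List (ℕ × ℕ × ℕ)} {bd : ℕ} {loc : List LD}
    {ords : List ℕ} {T : ℕ} (h : ((List.range T).all fun d => vac n p J d || chkE l n p a b D bd loc ords d) = true) :
    (List.range T).all (Cfsg.Agent.H147.Fpr.chkC l n p a b J D [] bd loc ords) = true :=
  List.all_eq_true.2 fun d hd => chkC_of_E (List.all_eq_true.1 h d hd)

/-- all divisors, times `a` -/
private noncomputable def allD (f : ℕ → Bool) (l : List (ℕ × ℕ)) : ℕ → Bool :=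
  List.rec f (fun x _ ih => Nat.rec (motive := fun _ => ℕ → Bool) (fun a => ih a)
    (fun _ r a => ih a && frc (Nat.mul a x.1) r) x.2) l

private theorem allD_spec (f : ℕ → Bool) : ∀ (l : List (ℕ × ℕ)) (a : ℕ), allD f l a = true → ∀ d ∈ divsT l, f (a * d) = true
  | [], a, h, d, hd => by rw [List.mem_singleton.1 hd, mul_one]; exact h
  | (p, e) :: l, a, h, d, hd => by
    have key : ∀ (e a : ℕ), allD f ((p, e) :: l) a = true → ∀ k ≤ e, allD f l (a * p ^ k) = true := by
      intro e
      induction e with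
      | zero => intro a h k hk; rw [Nat.le_zero.1 hk, pow_zero, mul_one]; exact h
      | succ e ih =>
        intro a h k hk
        obtain ⟨h1, h2⟩ := Bool.and_eq_true_iff.1 h
        cases k with
        | zero => rw [pow_zero, mul_one]; exact h1
        | succ k =>
          rw [pow_succ', ← mul_assoc]
          exact ih (a * p) ((frc_eq _ _).symm.trans h2) k (Nat.le_of_succ_le_succ hk)
    obtain ⟨k, hk, hd⟩ := List.mem_flatMap.1 hd
    obtain ⟨b, hb, rfl⟩ := List.mem_map.1 hd
    rw [← mul_assoc]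
    exact allD_spec f l _ (key e a h k (Nat.le_of_lt_succ (List.mem_range.1 hk))) b hb

/-- the count of the subgroups of order 23 is wrong -/
private noncomputable def pre (m : ℕ) : Bool := Nat.beq (Nat.mod m 23) 0 && !(Nat.beq (Nat.mod (Nat.div m 23) 23) 1 ||
  Nat.beq (Nat.mod (Nat.div m 253) 23) 1)

private theorem bad_of_pre {l : List (ℕ × ℕ)} {n bd C m : ℕ} {loc : List LD} {ords : List ℕ}
    (h : (frc m fun m => pre m || badF l n [] bd (⟨23, C, [(11, 1), (23, 1)]⟩ :: loc) ords m) = true) :
    bad l n [] bd (⟨23, C, [(11, 1), (23, 1)]⟩ :: loc) ords m = true := by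
  rw [frc_eq, ← badF_eq] at h
  rcases Bool.or_eq_true_iff.1 h with h | h
  · obtain ⟨h1, h2⟩ := Bool.and_eq_true_iff.1 h
    rw [Bool.not_eq_true', Bool.or_eq_false_iff] at h2
    refine Bool.or_eq_true_iff.2 (Or.inr (Bool.or_eq_true_iff.2 (Or.inl (Bool.and_eq_true_iff.2 ⟨(beq_e _ _).trans h1, ?_⟩))))
    have h3 : ([1, 23, 11, 253].any fun y => y % 23 == 0 && m % y == 0 && (m / y) % 23 == 1 % 23) = false := by
      have h4 : ((m / 23) % 23 == 1 % 23) = false := (beq_e _ _).trans h2.1
      have h5 : ((m / 253) % 23 == 1 % 23) = false := (beq_e _ _).trans h2.2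
      rw [List.any_cons, List.any_cons, List.any_cons, List.any_cons, h4, h5, Bool.and_false, Bool.and_false]
      rfl
    exact congrArg (fun b => !(b && _)) h3
  · exact h

end Cfsg.Agent.Co0B_H147_Fpr_CoOne

-- part: H147/Fpr/CoOne
section
/-!
# Fixed point ratios for `Co1` (helper147)
-/

set_option autoImplicit false
set_option maxRecDepth 100000

namespace Cfsg.Agent.H147.Fpr.CoOne

open Subgroup MulAction Cfsg Cfsg.Agent.H409 Cfsg.Agent.H940 Cfsg.Agent.H940.Eng Cfsg.Agent.H940.Eng.D
open Cfsg.Agent.H444.Fpr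
open Cfsg.Spor (Co1)

theorem fin : Finite Co1 := BpSpor.MBigCo.finite_co1
theorem simple : IsSimpleGroup Co1 := Cfsg.Agent.S0399.result.1
theorem card : Nat.card Co1 = n_co1 := BpSpor.MBigCo.card_co1

theorem exists_order {r : ℕ} (hr : r.Prime) (hd : r ∣ n_co1) : ∃ z : Co1, orderOf z = r := by
  have := fin
  have : Fact r.Prime := ⟨hr⟩
  exact exists_prime_orderOf_dvd_card' r (by rw [card]; exact hd)

theorem known23 : Known Co1 23 1 11 := H444.FprConway.known_co1

theorem known11 : Known Co1 11 6 10 := by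
  have := fin
  exact Known.of_cent (z := H800.ME.CoFacts.s) (by norm_num) card (by decide +kernel) (by decide +kernel)
    H800.ME.CoFacts.orderOf_s (by rw [H800.ME.CoFacts.card_cent]) (by decide +kernel)

theorem arith13 : ∀ c ∈ Nat.divisors 24, ∀ k ∈ Nat.divisors 12, 13 * c * k = 351 ∨ 13 * c * k = 1872 →
    (c = 12 ∧ k = 12) ∨ (c = 24 ∧ k = 6) := by decide +kernel

theorem known13 : Known Co1 13 12 12 ∨ Known Co1 13 24 6 := by
  have := fin
  have hp : Nat.Prime 13 := by norm_num
  obtain ⟨z, hz⟩ := exists_order (r := 13) hp (by decide +kernel)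
  have hcd := CoOneNine.dvd_312 hz
  have hcn := (H444.FprThirteen.cn (R := zpowers z) (by rw [Nat.card_zpowers, hz])).2
  obtain ⟨k, hk1, hk2, hk3, hk4, -⟩ := H547.SelfCent.arith hp hz (by rw [card]; decide +kernel)
  have h13 : 13 ∣ Nat.card ↥(centralizer ({z} : Set Co1)) := by
    have h1 : z ∈ centralizer ({z} : Set Co1) := mem_centralizer_singleton_iff.2 rfl
    have h2 : orderOf (⟨z, h1⟩ : centralizer ({z} : Set Co1)) = 13 := by rw [Subgroup.orderOf_mk, hz]
    rw [← h2]
    exact _root_.orderOf_dvd_natCard _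
  obtain ⟨c, hc⟩ := h13
  rw [hc] at hcd hk4
  have hc1 : c ∈ Nat.divisors 24 := Nat.mem_divisors.2
    ⟨Nat.dvd_of_mul_dvd_mul_left (by norm_num : 0 < 13) (by rw [show 13 * 24 = 312 by norm_num]; exact hcd), by norm_num⟩
  have hk : k ∈ Nat.divisors 12 := Nat.mem_divisors.2 ⟨hk1, by norm_num⟩
  rw [hk4] at hcn
  rcases arith13 c hc1 k hk hcn with ⟨rfl, rfl⟩ | ⟨rfl, rfl⟩
  · exact Or.inl (Known.of_cent hp card (by decide +kernel) (by decide +kernel) hz hc (by decide +kernel))
  · exact Or.inr (Known.of_cent hp card (by decide +kernel) (by decide +kernel) hz hc (by decide +kernel))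

/-- the local data -/
def loc (c : ℕ) : List LD := [⟨23, 23 * 1, [(11, 1), (23, 1)]⟩, ⟨13, 13 * c, [(2, 4), (3, 2), (13, 1)]⟩,
  ⟨11, 11 * 6, [(2, 2), (3, 1), (5, 1), (11, 1)]⟩]

theorem ctx (B : Base) {c e : ℕ} (h : Known Co1 13 c e) (hce : c * e = 144) : Ctx Co1 l_co1 n_co1 o_co1 (loc c) where
  fin := fin
  simple := simple
  card := card
  val := v_co1
  nodup := nd_co1
  ords := ords_co1 B
  loc := by
    have := fin
    intro ld hld
    simp only [loc, List.mem_cons, List.not_mem_nil, or_false] at hld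
    rcases hld with rfl | rfl | rfl
    · exact loc_of_known known23 (by decide +kernel) (by decide +kernel)
    · refine loc_of_known h (by decide +kernel) ?_
      rw [mul_assoc, hce]
      decide +kernel
    · exact loc_of_known known11 (by decide +kernel) (by decide +kernel)

private theorem ctx24 (B : Base) : Ctx Co1 l_co1 n_co1 o_co1 (loc 24) := by
  rcases known13 with h | h
  · have c := ctx B h (by norm_num)
    refine ⟨c.fin, c.simple, c.card, c.val, c.nodup, c.ords, fun ld hld => ?_⟩
    rcases List.mem_cons.1 hld with rfl | hld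
    · exact c.loc _ List.mem_cons_self
    rcases List.mem_cons.1 hld with rfl | hld
    · obtain ⟨h1, h2, h3, h4⟩ := c.loc _ (List.mem_cons_of_mem _ List.mem_cons_self)
      exact ⟨h1, h2, h3, fun R hR => ⟨(h4 R hR).1.trans (by decide : 13 * 12 ∣ 13 * 24), (h4 R hR).2⟩⟩
    · exact c.loc _ (List.mem_cons_of_mem _ (List.mem_cons_of_mem _ hld))
  · exact ctx B h (by norm_num)

theorem J_ok : ∀ q ∈ [2, 3, 5, 7, 11, 13, 23], q.Prime ∧ q ∣ n_co1 := by
  intro q hq
  simp only [List.mem_cons, List.not_mem_nil, or_false] at hq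
  rcases hq with rfl | rfl | rfl | rfl | rfl | rfl | rfl
  all_goals exact ⟨by norm_num, by decide +kernel⟩

theorem D_ok {c e : ℕ} (h : Known Co1 13 c e) : ∀ d ∈ [(23, 1, 11), (13, c, e), (11, 6, 10)], Known Co1 d.1 d.2.1 d.2.2 := by
  intro d hd
  simp only [List.mem_cons, List.not_mem_nil, or_false] at hd
  rcases hd with rfl | rfl | rfl
  · exact known23
  · exact h
  · exact known11

theorem row_two (B : Base) : FprRow 3 1 2 Co1 := by
  have hc : (((List.range 113).all fun d => vac n_co1 2 [2, 3, 5, 7, 11, 13, 23] d ||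
      Co0B_H147_Fpr_CoOne.chkE l_co1 n_co1 2 3 1 [(23, 1, 11), (13, 12, 12), (11, 6, 10)] 20 (loc 24) o_co1 d) &&
    ((List.range 113).all fun d => vac n_co1 2 [2, 3, 5, 7, 11, 13, 23] d ||
      Co0B_H147_Fpr_CoOne.chkE l_co1 n_co1 2 3 1 [(23, 1, 11), (13, 24, 6), (11, 6, 10)] 20 (loc 24) o_co1 d)) = true := by decide +kernel
  rcases known13 with h | h
  · exact row_comb (ctx24 B) (p := 2) (by norm_num) (by norm_num) [2, 3, 5, 7, 11, 13, 23] J_ok _ (D_ok h) []
      (by simp only [_root_.List.not_mem_nil, _root_.IsEmpty.forall_iff, _root_.implies_true]) 20 113 (by decide +kernel) (Co0B_H147_Fpr_CoOne.all_of (Bool.and_eq_true_iff.1 hc).1)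
  · exact row_comb (ctx24 B) (p := 2) (by norm_num) (by norm_num) [2, 3, 5, 7, 11, 13, 23] J_ok _ (D_ok h) []
      (by simp only [_root_.List.not_mem_nil, _root_.IsEmpty.forall_iff, _root_.implies_true]) 20 113 (by decide +kernel) (Co0B_H147_Fpr_CoOne.all_of (Bool.and_eq_true_iff.1 hc).2)

theorem row_three (B : Base) : FprRow 4 1 3 Co1 := by
  have hc : (((List.range 256).all fun d => vac n_co1 3 [2, 3, 5, 7, 11, 13, 23] d ||
      Co0B_H147_Fpr_CoOne.chkE l_co1 n_co1 3 4 1 [(23, 1, 11), (13, 12, 12), (11, 6, 10)] 20 (loc 24) o_co1 d) &&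
    ((List.range 256).all fun d => vac n_co1 3 [2, 3, 5, 7, 11, 13, 23] d ||
      Co0B_H147_Fpr_CoOne.chkE l_co1 n_co1 3 4 1 [(23, 1, 11), (13, 24, 6), (11, 6, 10)] 20 (loc 24) o_co1 d)) = true := by decide +kernel
  rcases known13 with h | h
  · exact row_comb (ctx24 B) (p := 3) (by norm_num) (by norm_num) [2, 3, 5, 7, 11, 13, 23] J_ok _ (D_ok h) []
      (by simp only [_root_.List.not_mem_nil, _root_.IsEmpty.forall_iff, _root_.implies_true]) 20 256 (by decide +kernel) (Co0B_H147_Fpr_CoOne.all_of (Bool.and_eq_true_iff.1 hc).1)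
  · exact row_comb (ctx24 B) (p := 3) (by norm_num) (by norm_num) [2, 3, 5, 7, 11, 13, 23] J_ok _ (D_ok h) []
      (by simp only [_root_.List.not_mem_nil, _root_.IsEmpty.forall_iff, _root_.implies_true]) 20 256 (by decide +kernel) (Co0B_H147_Fpr_CoOne.all_of (Bool.and_eq_true_iff.1 hc).2)

theorem row_five (B : Base) : FprRow 6 1 5 Co1 := by
  have hc : (((List.range 144).all fun d => vac n_co1 5 [2, 3, 5, 7, 11, 13, 23] d ||
      Co0B_H147_Fpr_CoOne.chkE l_co1 n_co1 5 6 1 [(23, 1, 11), (13, 12, 12), (11, 6, 10)] 20 (loc 24) o_co1 d) &&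
    ((List.range 144).all fun d => vac n_co1 5 [2, 3, 5, 7, 11, 13, 23] d ||
      Co0B_H147_Fpr_CoOne.chkE l_co1 n_co1 5 6 1 [(23, 1, 11), (13, 24, 6), (11, 6, 10)] 20 (loc 24) o_co1 d)) = true := by decide +kernel
  rcases known13 with h | h
  · exact row_comb (ctx24 B) (p := 5) (by norm_num) (by norm_num) [2, 3, 5, 7, 11, 13, 23] J_ok _ (D_ok h) []
      (by simp only [_root_.List.not_mem_nil, _root_.IsEmpty.forall_iff, _root_.implies_true]) 20 144 (by decide +kernel) (Co0B_H147_Fpr_CoOne.all_of (Bool.and_eq_true_iff.1 hc).1)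
  · exact row_comb (ctx24 B) (p := 5) (by norm_num) (by norm_num) [2, 3, 5, 7, 11, 13, 23] J_ok _ (D_ok h) []
      (by simp only [_root_.List.not_mem_nil, _root_.IsEmpty.forall_iff, _root_.implies_true]) 20 144 (by decide +kernel) (Co0B_H147_Fpr_CoOne.all_of (Bool.and_eq_true_iff.1 hc).2)

theorem row_eleven (B : Base) : FprRow 12 1 11 Co1 := by
  have hc : (((List.range 24).all fun d => vac n_co1 11 [2, 3, 5, 7, 11, 13, 23] d ||
      Co0B_H147_Fpr_CoOne.chkE l_co1 n_co1 11 12 1 [(23, 1, 11), (13, 12, 12), (11, 6, 10)] 20 (loc 24) o_co1 d) &&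
    ((List.range 24).all fun d => vac n_co1 11 [2, 3, 5, 7, 11, 13, 23] d ||
      Co0B_H147_Fpr_CoOne.chkE l_co1 n_co1 11 12 1 [(23, 1, 11), (13, 24, 6), (11, 6, 10)] 20 (loc 24) o_co1 d)) = true := by decide +kernel
  rcases known13 with h | h
  · exact row_comb (ctx24 B) (p := 11) (by norm_num) (by norm_num) [2, 3, 5, 7, 11, 13, 23] J_ok _ (D_ok h) []
      (by simp only [_root_.List.not_mem_nil, _root_.IsEmpty.forall_iff, _root_.implies_true]) 20 24 (by decide +kernel) (Co0B_H147_Fpr_CoOne.all_of (Bool.and_eq_true_iff.1 hc).1)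
  · exact row_comb (ctx24 B) (p := 11) (by norm_num) (by norm_num) [2, 3, 5, 7, 11, 13, 23] J_ok _ (D_ok h) []
      (by simp only [_root_.List.not_mem_nil, _root_.IsEmpty.forall_iff, _root_.implies_true]) 20 24 (by decide +kernel) (Co0B_H147_Fpr_CoOne.all_of (Bool.and_eq_true_iff.1 hc).2)

theorem row_thirteen (B : Base) : FprRow 14 1 13 Co1 := by
  have hc : (((List.range 2016).all fun d => vac n_co1 13 [2, 3, 5, 7, 11, 13, 23] d ||
      Co0B_H147_Fpr_CoOne.chkE l_co1 n_co1 13 14 1 [(23, 1, 11), (13, 12, 12), (11, 6, 10)] 20 (loc 24) o_co1 d) &&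
    ((List.range 2016).all fun d => vac n_co1 13 [2, 3, 5, 7, 11, 13, 23] d ||
      Co0B_H147_Fpr_CoOne.chkE l_co1 n_co1 13 14 1 [(23, 1, 11), (13, 24, 6), (11, 6, 10)] 20 (loc 24) o_co1 d)) = true := by decide +kernel
  rcases known13 with h | h
  · exact row_comb (ctx24 B) (p := 13) (by norm_num) (by norm_num) [2, 3, 5, 7, 11, 13, 23] J_ok _ (D_ok h) []
      (by simp only [_root_.List.not_mem_nil, _root_.IsEmpty.forall_iff, _root_.implies_true]) 20 2016 (by decide +kernel) (Co0B_H147_Fpr_CoOne.all_of (Bool.and_eq_true_iff.1 hc).1)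
  · exact row_comb (ctx24 B) (p := 13) (by norm_num) (by norm_num) [2, 3, 5, 7, 11, 13, 23] J_ok _ (D_ok h) []
      (by simp only [_root_.List.not_mem_nil, _root_.IsEmpty.forall_iff, _root_.implies_true]) 20 2016 (by decide +kernel) (Co0B_H147_Fpr_CoOne.all_of (Bool.and_eq_true_iff.1 hc).2)

theorem row_23 (B : Base) : FprRow 24 1 23 Co1 := by
  have hc : (((List.range 264).all fun d => vac n_co1 23 [2, 3, 5, 7, 11, 13, 23] d ||
      Co0B_H147_Fpr_CoOne.chkE l_co1 n_co1 23 24 1 [(23, 1, 11), (13, 12, 12), (11, 6, 10)] 20 (loc 24) o_co1 d) &&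
    ((List.range 264).all fun d => vac n_co1 23 [2, 3, 5, 7, 11, 13, 23] d ||
      Co0B_H147_Fpr_CoOne.chkE l_co1 n_co1 23 24 1 [(23, 1, 11), (13, 24, 6), (11, 6, 10)] 20 (loc 24) o_co1 d)) = true := by decide +kernel
  rcases known13 with h | h
  · exact row_comb (ctx24 B) (p := 23) (by norm_num) (by norm_num) [2, 3, 5, 7, 11, 13, 23] J_ok _ (D_ok h) []
      (by simp only [_root_.List.not_mem_nil, _root_.IsEmpty.forall_iff, _root_.implies_true]) 20 264 (by decide +kernel) (Co0B_H147_Fpr_CoOne.all_of (Bool.and_eq_true_iff.1 hc).1)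
  · exact row_comb (ctx24 B) (p := 23) (by norm_num) (by norm_num) [2, 3, 5, 7, 11, 13, 23] J_ok _ (D_ok h) []
      (by simp only [_root_.List.not_mem_nil, _root_.IsEmpty.forall_iff, _root_.implies_true]) 20 264 (by decide +kernel) (Co0B_H147_Fpr_CoOne.all_of (Bool.and_eq_true_iff.1 hc).2)

/-! ### order 7 -/

private theorem gen_a1 : Co0B_H147_Fpr_CoOne.allD (fun d => Nat.beq d 1 || Co0B_H147_Fpr_CoOne.frc (Nat.div n_co1 d) fun m =>
    Co0B_H147_Fpr_CoOne.pre m || Co0B_H147_Fpr_CoOne.badF l_co1 n_co1 [] 20 (loc 24) o_co1 m) [(2, 21), (3, 9), (5, 4), (7, 2), (11, 1)] 1 = true := by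
  decide +kernel

private theorem gen_a2 (d : ℕ) (hd : d ∈ divsT [(2, 21), (3, 9), (5, 4), (7, 2), (11, 1)]) :
    (d == 1 || ([] : List ℕ).contains d || bad l_co1 n_co1 [] 20 (loc 24) o_co1 (n_co1 / d)) = true := by
  have h := Co0B_H147_Fpr_CoOne.allD_spec _ _ 1 gen_a1 d hd
  rw [one_mul] at h
  rcases Bool.or_eq_true_iff.1 h with h | h
  · rw [Nat.eq_of_beq_eq_true h]
    rfl
  · exact Bool.or_eq_true_iff.2 (Or.inr (Co0B_H147_Fpr_CoOne.bad_of_pre h))

private theorem gen_a3 : check l_co1 n_co1 [(2, 21), (3, 9), (5, 4), (7, 2), (11, 1)] [] [] 20 (loc 24) o_co1 = true :=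
  List.all_eq_true.2 gen_a2

private theorem gen_chk : H940.Eng.chk l_co1 n_co1 23 13 [(2, 21), (3, 9), (5, 4), (7, 2), (11, 1)] [] [] 20 (loc 24) o_co1 = true :=
  Bool.and_eq_true_iff.2 ⟨by decide +kernel, gen_a3⟩

open CoOneRel in
/-- generation by `u` and `x` -/
theorem gen (B : Base) : _root_.Subgroup.closure ({u, x} : Set Co1) = ⊤ := by
  have := fin
  have hu : u ∈ _root_.Subgroup.closure ({u, x} : Set Co1) := _root_.Subgroup.subset_closure (Or.inl rfl)
  have hx : x ∈ closure ({u, x} : Set Co1) := _root_.Subgroup.subset_closure (Or.inr rfl)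
  have hxi := inv_mem hx
  have h23 : 23 ∣ Nat.card (closure ({u, x} : Set Co1)) := by
    refine dvd_card_of_mem (w := w23) (m := 1) ?_ (by norm_num) (by rw [one_mul, w23_pow]) (by rw [pow_one]; exact w23_ne)
    rw [w23_eq]
    exact mul_mem hxi (mul_mem hu (mul_mem hxi hxi))
  have h13 : 13 ∣ Nat.card (closure ({u, x} : Set Co1)) := by
    refine dvd_card_of_mem (w := w13) (m := 3) ?_ (by norm_num) (by rw [show 3 * 13 = 39 by norm_num, w13_pow]) w13_ne
    rw [w13_eq]
    exact mul_mem hu (mul_mem hxi (mul_mem hxi (mul_mem hxi (mul_mem hu (mul_mem hx hx)))))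
  rcases (ctx24 B).over [(2, 21), (3, 9), (5, 4), (7, 2), (11, 1)] [] [] 20 gen_chk h23 h13
    (fun p hp => absurd hp List.not_mem_nil) with h1 | h1
  · exact h1
  · exact absurd h1 List.not_mem_nil

open CoOneRel in
theorem radOk : RadOk 7 x r := by
  refine ⟨r2, x7, rx7, fun i hi => ?_⟩
  have h1 : i < 4 := by omega
  interval_cases i
  · rw [pow_zero, one_mul, inv_one, mul_one]
  · exact cm1
  · exact cm2
  · exact cm3

open CoOneRel in
theorem conj_ur : IsConj r u := isConj_iff.2 ⟨g, u_eq.symm⟩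

open CoOneRel in
/-- a single fixed point of `u` -/
theorem eleven_of_one {H : Subgroup Co1} (h1 : Nat.card (fixedBy (Co1 ⧸ H) u) = 1) : 11 ∣ Nat.card H := by
  have := fin
  rw [Nat.card_eq_one_iff_exists] at h1
  obtain ⟨⟨P, hP⟩, huniq⟩ := h1
  have hP' : u • P = P := hP
  have hru : ∀ z : Co1 ⧸ H, r • z = z → g • z = P := by
    intro z hz
    have h2 : u • (g • z) = g • z := by
      rw [u_eq, smul_smul, show g * r * g⁻¹ * g = g * r by group, ← smul_smul, hz]
    exact congrArg Subtype.val (huniq ⟨g • z, h2⟩)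
  set! Q := g⁻¹ • P with hQ
  have hrQ : r • Q = Q := by
    rw [hQ, smul_smul, show r * g⁻¹ = g⁻¹ * (g * r * g⁻¹) by group, ← u_eq, ← smul_smul, hP']
  have hmQ : m • Q = Q := by
    have h3 : r • (m • Q) = m • Q := by rw [smul_smul, ← mr, ← smul_smul, hrQ]
    have h4 := hru _ h3
    show m • Q = g⁻¹ • P
    rw [← h4, inv_smul_smul]
  have h5 : m ∈ stabilizer Co1 Q := hmQ
  obtain ⟨b, hb⟩ := QuotientGroup.mk_surjective Q
  have h6 : b⁻¹ * m * b ∈ H := by
    rw [← hb] at h5
    have h7 : (m • (QuotientGroup.mk b : Co1 ⧸ H)) = QuotientGroup.mk b := h5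
    have h8 : (QuotientGroup.mk (m * b) : Co1 ⧸ H) = QuotientGroup.mk b := h7
    have h9 := QuotientGroup.eq.1 h8.symm
    rwa [← mul_assoc] at h9
  refine dvd_card_of_mem (w := b⁻¹ * m * b) (m := 1) h6 (by norm_num) ?_ ?_
  · have h7 : (b⁻¹ * m * b) ^ 11 = b⁻¹ * m ^ 11 * b := by
      have := conj_pow (i := 11) (a := b⁻¹) (b := m)
      rwa [inv_inv] at this
    rw [one_mul, h7, m11, mul_one, inv_mul_cancel]
  · rw [pow_one]
    intro h7
    apply m_ne
    have h8 : m = b * (b⁻¹ * m * b) * b⁻¹ := by group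
    rw [h8, h7, mul_one, mul_inv_cancel]

/-- the indices prime to 22 -/
private noncomputable def chkOdd (c e : ℕ) : Bool :=
  (divsT [(3, 9), (5, 4), (7, 2), (13, 1), (23, 1)]).all fun d => Co0B_H147_Fpr_CoOne.frc d fun d => Nat.beq d 1 ||
    Co0B_H147_Fpr_CoOne.chkE l_co1 n_co1 7 8 1 [(23, 1, 11), (13, c, e), (11, 6, 10)] 20 (loc 24) o_co1 d

private theorem chkOdd_ab : (chkOdd 12 12 && chkOdd 24 6) = true := by decide +kernel

private theorem odd_aux (B : Base) {c e : ℕ} (h : Known Co1 13 c e) (hc : chkOdd c e = true)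
    {M : Subgroup Co1} (hM : IsCoatom M) (h2 : ¬ 2 ∣ M.index) (h11 : ¬ 11 ∣ M.index) :
    ∃ x : Co1, (∃ k : ℕ, orderOf x = 7 ^ k) ∧ 8 * Nat.card (fixedBy (Co1 ⧸ M) x) ≤ 1 * Nat.card (Co1 ⧸ M) := by
  have := fin
  have h3 : M.index ∣ n_co1 := by rw [← card]; exact index_dvd_card M
  have h4 : M.index ∣ OrdDiv.prodl [(3, 9), (5, 4), (7, 2), (13, 1), (23, 1)] := by
    have e1 : n_co1 = (2 ^ 21 * 11) * OrdDiv.prodl [(3, 9), (5, 4), (7, 2), (13, 1), (23, 1)] := by decide +kernel
    rw [e1] at h3
    refine Nat.Coprime.dvd_of_dvd_mul_left ?_ h3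
    refine Nat.Coprime.mul_right ?_ ?_
    · exact Nat.Coprime.pow_right _ ((Nat.coprime_comm.1 ((Nat.Prime.coprime_iff_not_dvd Nat.prime_two).2 h2)))
    · exact Nat.coprime_comm.1 ((Nat.Prime.coprime_iff_not_dvd (by norm_num : Nat.Prime 11)).2 h11)
  have h5 := mem_divsT (l := [(3, 9), (5, 4), (7, 2), (13, 1), (23, 1)]) (by
    intro x hx
    simp only [List.mem_cons, List.not_mem_nil, or_false] at hx
    rcases hx with rfl | rfl | rfl | rfl | rfl <;> norm_num) h4
  unfold chkOdd at hc
  rw [List.all_eq_true] at hc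
  have h6 := hc _ h5
  rw [Co0B_H147_Fpr_CoOne.frc_eq, Bool.or_eq_true, H444.Fpr.beqT] at h6
  rcases h6 with h6 | h6
  · exact absurd (Subgroup.index_eq_one.1 h6) hM.1
  · exact of_chkC (ctx24 B) (p := 7) (by norm_num) (by norm_num) J_ok (D_ok h) (cent := []) (by simp only [_root_.List.not_mem_nil, _root_.IsEmpty.forall_iff, _root_.implies_true]) hM
      (Co0B_H147_Fpr_CoOne.chkC_of_E (by rw [h6, Bool.or_true]))

open CoOneRel in
theorem row_seven (B : Base) : FprRow 8 1 7 Co1 := by
  have := fin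
  have : Fact (Nat.Prime 2) := ⟨Nat.prime_two⟩
  have : Fact (Nat.Prime 7) := ⟨by norm_num⟩
  have hu1 : u ≠ 1 := by
    intro h
    have h1 := u_eq
    rw [h] at h1
    apply r_ne
    have h2 : r = g⁻¹ * (g * r * g⁻¹) * g := by group
    rw [h2, ← h1, mul_one, inv_mul_cancel]
  have hu2 : u * u = 1 := by
    rw [u_eq]
    calc g * r * g⁻¹ * (g * r * g⁻¹) = g * (r * r) * g⁻¹ := by group
      _ = 1 := by rw [r2, mul_one, mul_inv_cancel]
  have hu : orderOf u = 2 := orderOf_eq_prime (by rw [pow_two, hu2]) hu1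
  have hx : orderOf x = 7 := orderOf_eq_prime x7 x_ne
  have hux : orderOf (u * x) = 7 := orderOf_eq_prime ux7 ux_ne
  apply FprRow.of_coatom
  intro M hM
  by_contra hcon
  have h1 := seven_277 hu hx hux (gen B) hcon
  rcases Nat.eq_zero_or_pos (Nat.card (fixedBy (Co1 ⧸ M) u)) with h0 | h0
  · exact hcon (seven_zero radOk conj_ur.symm h0)
  · have h2 : Nat.card (fixedBy (Co1 ⧸ M) u) = 1 := by omega
    have h3 := eleven_of_one h2
    have h4 := fix_modEq (Ω := Co1 ⧸ M) Nat.prime_two hu
    rw [h2] at h4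
    have h5 : ¬ 2 ∣ M.index := by
      intro h
      have h6 : Nat.card (Co1 ⧸ M) % 2 = 0 := Nat.mod_eq_zero_of_dvd h
      omega
    have h6 : ¬ 11 ∣ M.index := by
      intro h
      have h7 : 11 * 11 ∣ Nat.card M * M.index := Nat.mul_dvd_mul h3 h
      rw [Subgroup.card_mul_index, card] at h7
      revert h7
      decide +kernel
    rcases known13 with h | h
    · exact hcon (odd_aux B h (Bool.and_eq_true_iff.1 chkOdd_ab).1 hM h5 h6)
    · exact hcon (odd_aux B h (Bool.and_eq_true_iff.1 chkOdd_ab).2 hM h5 h6)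

theorem row (B : Base) {p : ℕ} (hp : p.Prime) (hd : p ∣ Nat.card Co1) : FprRow (p + 1) 1 p Co1 := by
  rw [card] at hd
  have h := H715.Fpr.valid_mem v_co1 hp hd
  simp only [l_co1, List.map_cons, List.map_nil, List.mem_cons, List.not_mem_nil, or_false] at h
  rcases h with rfl | rfl | rfl | rfl | rfl | rfl | rfl
  · exact row_two B
  · exact row_three B
  · exact row_five B
  · exact row_seven B
  · exact row_eleven B
  · exact row_thirteen B
  · exact row_23 B

universe u

end Cfsg.Agent.H147.Fpr.CoOne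
end

private theorem dce_7dd985a30fd2 : _root_.True := by
  try have : _root_.True := by simp only [_root_.Cfsg.Agent.H147.Fpr.CoOne.loc.eq_1]
  try have : _root_.True := by simp only [_root_.Cfsg.Agent.H147.Fpr.CoOneRel.w13.eq_1]
  try have : _root_.True := by simp only [_root_.Cfsg.Agent.H940.Eng.D.l_co1.eq_1]
  try have : _root_.True := by simp only [_root_.Cfsg.Agent.H147.Fpr.CoOneRel.w23.eq_1]
  exact _root_.True.intro
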