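import Cfsg.Agent.H147.Fpr.Gen
import Cfsg.Agent.H715.Fpr.Row4_m3
import Cfsg.Agent.H940.EngData
import Cfsg.Agent.H547.SelfCent.He
import Cfsg.Agent.H394.SqBasic
import Cfsg.Agent.KFacts.He.Classes
import Cfsg.Agent.Held.HeldCardEq_m3
import Cfsg.Agent.HoltZ.CentHe
import Cfsg.Agent.Prune
set_option linter.all false
prune_inst 0x7f00000000000000000000000000000000000000000000000000000000000000000000000000000000000000000000000000000000000000000000000000000000000000000000000000000000000000003fffffffffffffffffffffffffffbeffbdffffffff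
open scoped Cfsg.Agent.FastGrp

/-!
# Fixed point ratios for the Held group (helper147)

`u`, `v` : a pair of orders 2, 3 with product of order 7 generating `He`; `x`, `r`, `s` : elements of order 5, 2, 2 with
`⟨x, r⟩`, `⟨x, s⟩` of the form `2^4:5` generating `He`.
-/

set_option autoImplicit false
set_option maxRecDepth 100000

namespace Cfsg.Agent.H147.Fpr.He

open Subgroup Cfsg Cfsg.Agent.H409 Cfsg.Agent.H940 Cfsg.Agent.H940.Eng Cfsg.Agent.H940.Eng.D
open Cfsg.Spor.He (Gen)
open Cfsg.Agent.SporadicB.HePerm Cfsg.Agent.FixBN.HeStab Cfsg.Agent.KFacts.He.Lv Cfsg.Agent.CpAutHe.Cnt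
open Cfsg.Agent.H547.SelfCent.HeRow (ne_one_of_act)

abbrev G : Type := Cfsg.Spor.He

theorem cardG : Nat.card G = n_he := KFacts.He.Classes.card_he
theorem finG : Finite G := Nat.finite_of_card_ne_zero (by rw [cardG]; decide +kernel)
theorem simpleG : IsSimpleGroup G := KFacts.He.Cent.simpleHe
theorem not_comm : ¬ ∀ a b : G, a * b = b * a := fun h => QTUnique.He.noncomm ⟨⟨h⟩⟩

def loc : List LD := [⟨17, 17, [(2, 3), (17, 1)]⟩]

theorem ctx (B : Base) : Ctx G l_he n_he o_he loc where
  fin := finG
  simple := simpleG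
  card := cardG
  val := v_he
  nodup := nd_he
  ords := ords_he B
  loc := by
    have := finG
    have := simpleG
    intro ld hld
    simp only [loc, List.mem_cons, List.not_mem_nil, or_false] at hld
    rw [hld]
    obtain ⟨R, hR⟩ := exists_card_eq (G := G) (r := 17) (by decide +kernel) (by rw [cardG]; decide +kernel)
    refine loc_of_cent not_comm cardG (by decide +kernel) (by decide +kernel) (fC := [(17, 1)]) (by decide +kernel) hR ?_
      (by decide +kernel) (by decide +kernel)
    have h17 : Fact (Nat.Prime 17) := ⟨by norm_num⟩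
    obtain ⟨x, hx⟩ := exists_prime_orderOf_dvd_card' 17 (hR ▸ dvd_rfl : 17 ∣ Nat.card R)
    have h1 := H547.SelfCent.HeRow.he ⟨MulEquiv.refl G⟩ cardG (x := (x : G)) (by rw [Subgroup.orderOf_coe, hx])
    have h2 : centralizer (R : Set G) ≤ centralizer {(x : G)} :=
      centralizer_le (Set.singleton_subset_iff.2 x.2)
    exact (card_dvd_of_le h2).trans (by rw [h1]; decide)

theorem top_of (B : Base) {H : Subgroup G} (h17 : 17 ∣ Nat.card H) (h7 : 7 ∣ Nat.card H) : H = ⊤ := by
  rcases (ctx B).over [(2, 10), (3, 3), (5, 2), (7, 2)] [] [] 20 (by exact Cfsg.Agent.H940.EngF.chk_fast (by decide +kernel)) h17 h7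
    (fun p hp => absurd hp List.not_mem_nil) with h | h
  · exact h
  · exact absurd h List.not_mem_nil

theorem index_ge {H : Subgroup G} (hH : H ≠ ⊤) : 17 ≤ H.index := by
  have := finG
  have := simpleG
  exact H394.SqBasic.le_index_of_prime_dvd hH (by norm_num) (by rw [cardG]; decide +kernel)

/-! ### the words -/

def U : List Gen := [.c, .a, .b, .g, .d, .c, .f, .d, .e, .c, .d, .b, .a, .c, .e, .d, .f, .d, .e, .c, .a, .b, .d, .c, .e,
  .d, .f, .c, .d, .g, .b, .a, .c]
def V : List Gen := [.c, .b]
def X : List Gen := [.e, .c, .d]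
def R : List Gen := [.g, .e, .c, .e, .c, .a, .c, .f, .g, .b, .d, .g, .f, .g, .d, .b, .g, .f, .c, .a, .c, .e, .c, .e, .g]
def T : List Gen := [.c, .d, .a, .f, .c, .e, .b, .c, .f, .e, .d, .b, .c, .f, .e, .f, .e, .f, .c, .b, .d, .e, .f, .c, .b,
  .e, .c, .f, .a, .d, .c]

theorem orderOf_wd {w : List Gen} {p : ℕ} (hp : p.Prime) (h : chkB (pw w p) [] = true) (h1 : wd w ≠ 1) :
    orderOf (wd w) = p := by
  have : Fact p.Prime := ⟨hp⟩
  refine orderOf_eq_prime ?_ h1
  have h := eq_of_chkB h
  rwa [wd_pw, wd_nil] at h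

theorem pow_eq {w : List Gen} {k : ℕ} (h : chkB (pw w k) [] = true) : wd w ^ k = 1 := by
  have h := eq_of_chkB h
  rwa [wd_pw, wd_nil] at h

theorem oU : orderOf (wd U) = 2 := orderOf_wd (by norm_num) (by decide +kernel) (ne_one_of_act 1 (by decide +kernel))
theorem oV : orderOf (wd V) = 3 := orderOf_wd (by norm_num) (by decide +kernel) (ne_one_of_act 1 (by decide +kernel))
theorem oUV : orderOf (wd U * wd V) = 7 := by
  rw [← wd_append]
  exact orderOf_wd (by norm_num) (by decide +kernel) (ne_one_of_act 1 (by decide +kernel))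

theorem genUV (B : Base) : closure ({wd U, wd V} : Set G) = ⊤ := by
  have := finG
  set H := closure ({wd U, wd V} : Set G) with hH
  have hU : wd U ∈ H := subset_closure (Set.mem_insert _ _)
  have hV : wd V ∈ H := subset_closure (Set.mem_insert_of_mem _ rfl)
  refine top_of B ?_ ?_
  · refine dvd_card_of_mem (w := wd (V ++ (U ++ (V ++ (V ++ U))))) (m := 1) ?_ (by norm_num) ?_ ?_
    · simp only [wd_append]
      exact mul_mem hV (mul_mem hU (mul_mem hV (mul_mem hV hU)))
    · rw [one_mul]
      exact pow_eq (by decide +kernel)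
    · rw [pow_one]
      exact ne_one_of_act 1 (by decide +kernel)
  · refine dvd_card_of_mem (w := wd U * wd V) (m := 1) (mul_mem hU hV) (by norm_num) ?_ ?_
    · rw [one_mul, ← oUV, pow_orderOf_eq_one]
    · rw [pow_one]
      intro h
      have := oUV
      rw [h, orderOf_one] at this
      omega

theorem row_two_three (B : Base) : FprRow 3 1 2 G ∧ FprRow 4 1 3 G := by
  have := finG
  exact row_23t oU oV oUV (genUV B) fun H hH => by
    have := index_ge hH
    omega

theorem row_two (B : Base) : FprRow 3 1 2 G := (row_two_three B).1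
theorem row_three (B : Base) : FprRow 4 1 3 G := (row_two_three B).2

theorem row_seven (B : Base) : FprRow 8 1 7 G := by
  have := finG
  exact seven_237 oU oV oUV (genUV B) fun H hH => by
    have := index_ge hH
    omega

/-! ### order 5 -/

theorem radOk {r : List Gen} (h1 : chkB (r ++ r) [] = true) (h3 : chkB (pw (r ++ X) 5) [] = true)
    (h4 : chkB (r ++ (pw X 1 ++ (r ++ pw X 4))) (pw X 1 ++ (r ++ (pw X 4 ++ r))) = true)
    (h5 : chkB (r ++ (pw X 2 ++ (r ++ pw X 3))) (pw X 2 ++ (r ++ (pw X 3 ++ r))) = true) : RadOk 5 (wd X) (wd r) := by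
  refine RadOk.of_words ?_ (pow_eq (by decide +kernel)) ?_ ?_
  · have h := eq_of_chkB h1
    rwa [wd_append, wd_nil] at h
  · have h := pow_eq h3
    rwa [wd_append] at h
  · intro i h0 hi
    have h01 : i = 1 ∨ i = 2 := by omega
    rcases h01 with rfl | rfl
    · have h := eq_of_chkB h4
      simp only [wd_append, wd_pw] at h
      show wd r * (wd X ^ 1 * wd r * wd X ^ 4) = (wd X ^ 1 * wd r * wd X ^ 4) * wd r
      simp only [mul_assoc]
      exact h
    · have h := eq_of_chkB h5
      simp only [wd_append, wd_pw] at h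
      show wd r * (wd X ^ 2 * wd r * wd X ^ 3) = (wd X ^ 2 * wd r * wd X ^ 3) * wd r
      simp only [mul_assoc]
      exact h

theorem genX (B : Base) : closure ({wd X, wd R, wd T} : Set G) = ⊤ := by
  have := finG
  set H := closure ({wd X, wd R, wd T} : Set G) with hH
  have hX : wd X ∈ H := subset_closure (by simp)
  have hR : wd R ∈ H := subset_closure (by simp)
  have hT : wd T ∈ H := subset_closure (by simp)
  refine top_of B ?_ ?_
  · refine dvd_card_of_mem (w := wd (R ++ (T ++ (R ++ (X ++ (T ++ (R ++ X))))))) (m := 1) ?_ (by norm_num) ?_ ?_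
    · simp only [wd_append]
      exact mul_mem hR (mul_mem hT (mul_mem hR (mul_mem hX (mul_mem hT (mul_mem hR hX)))))
    · rw [one_mul]
      exact pow_eq (by decide +kernel)
    · rw [pow_one]
      exact ne_one_of_act 1 (by decide +kernel)
  · refine dvd_card_of_mem (w := wd (R ++ (T ++ X))) (m := 2) ?_ (by norm_num) ?_ ?_
    · simp only [wd_append]
      exact mul_mem hR (mul_mem hT hX)
    · exact pow_eq (by decide +kernel)
    · rw [← wd_pw]
      exact ne_one_of_act 1 (by decide +kernel)

theorem row_five (B : Base) : FprRow 6 1 5 G := by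
  have := finG
  exact Fpr.row_five (x := wd X) (r := wd R) (s := wd T)
    (radOk (by decide +kernel) (by decide +kernel) (by decide +kernel) (by decide +kernel))
    (radOk (by decide +kernel) (by decide +kernel) (by decide +kernel) (by decide +kernel)) (genX B)

/-! ### order 17 -/

theorem norm17 (B : Base) {K : Subgroup G} (hK : Nat.card K = 17) : Nat.card (normalizer (K : Set G)) ≤ 136 := by
  have h := (ctx B).loc ⟨17, 17, [(2, 3), (17, 1)]⟩ (by simp [loc])
  exact Nat.le_of_dvd (by norm_num) (((h.2.2.2 K hK).2).trans (by decide))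

set_option maxHeartbeats 4000000 in
theorem row_seventeen (B : Base) : FprRow 18 1 17 G := by
  refine H715.Fpr.row_of_check' (ctx B) (D := ⟨17, [], [], [136]⟩) ⟨by decide +kernel, by simp, by simp, ?_⟩ (bd := 20)
    (by exact Cfsg.Agent.H715.Fpr.rcheck_fast (by decide +kernel))
  intro N hN K hK
  rw [List.mem_singleton.1 hN]
  exact norm17 B hK

theorem row (B : Base) {p : ℕ} (hp : p.Prime) (hd : p ∣ Nat.card G) : FprRow (p + 1) 1 p G := by
  rw [cardG] at hd
  have h := H715.Fpr.valid_mem v_he hp hd
  simp only [l_he, List.map_cons, List.map_nil, List.mem_cons, List.not_mem_nil, or_false] at h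
  rcases h with rfl | rfl | rfl | rfl | rfl
  · exact row_two B
  · exact row_three B
  · exact row_five B
  · exact row_seven B
  · exact row_seventeen B

universe u

/-- **All rows of the Held group.** -/
theorem rowIso (B : Base) {S : Type u} [Group S] (h : Spor.IsoHe S) {p : ℕ} (hp : p.Prime) (hd : p ∣ Nat.card S) :
    FprRow (p + 1) 1 p S := by
  have := finG
  obtain ⟨e⟩ := h
  exact FprRow.of_mulEquiv hp e.symm (row B hp (by rwa [Nat.card_congr e.symm.toEquiv]))

end Cfsg.Agent.H147.Fpr.He

private theorem dce_78bad506ec93 : _root_.True := by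
  try have : _root_.True := by simp only [_root_.Cfsg.Agent.H147.Fpr.He.loc.eq_1]
  try have : _root_.True := by simp only [_root_.Cfsg.Agent.H940.Eng.D.l_he.eq_1]
  exact _root_.True.intro
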